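import Cfsg.Agent.H439.Der.Reduce

/-!
# Three classes of derangements (S3502): interface

* `Three T R`  : three elements of `T`, pairwise not `Aut T`-conjugate, without `Aut T`-images in `R`
* `ThreeT T R` : the same for `T`-conjugacy
* `SCC T v` : at most two `Aut T`-classes of elements of order divisible by `v`
* `NTC T` : no prime `v ∣ |T|` is `SCC`
* `RowS T` : all maximal subgroups are `Two` and all proper non-maximal subgroups are `Three`
  (`RowS.of_three`: enough that all maximal subgroups are `Three`)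
* `RowW T` : the weak form for exceptional `T`
-/

set_option autoImplicit false

namespace Cfsg.Agent.H439.Der

open Subgroup Cfsg.Agent.H938.Sax

/-- three elements of `T`, pairwise not `Aut T`-conjugate, without any `Aut T`-image in `R` -/
def Three (T : Type*) [Group T] (R : Subgroup T) : Prop :=
  ∃ x y z : T, (∀ φ : T ≃* T, φ x ∉ R) ∧ (∀ φ : T ≃* T, φ y ∉ R) ∧ (∀ φ : T ≃* T, φ z ∉ R) ∧
    (∀ φ : T ≃* T, φ x ≠ y) ∧ (∀ φ : T ≃* T, φ x ≠ z) ∧ ∀ φ : T ≃* T, φ y ≠ z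

/-- three elements of `T`, pairwise not `T`-conjugate, without any `T`-conjugate in `R` -/
def ThreeT (T : Type*) [Group T] (R : Subgroup T) : Prop :=
  ∃ x y z : T, (∀ g : T, g * x * g⁻¹ ∉ R) ∧ (∀ g : T, g * y * g⁻¹ ∉ R) ∧ (∀ g : T, g * z * g⁻¹ ∉ R) ∧
    (∀ g : T, g * x * g⁻¹ ≠ y) ∧ (∀ g : T, g * x * g⁻¹ ≠ z) ∧ ∀ g : T, g * y * g⁻¹ ≠ z

/-- at most two `Aut T`-classes of elements of order divisible by `v` -/
def SCC (T : Type*) [Group T] (v : ℕ) : Prop :=
  ∃ x y : T, ∀ z : T, v ∣ orderOf z → (∃ φ : T ≃* T, φ x = z) ∨ ∃ φ : T ≃* T, φ y = z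

/-- no prime divisor `v` of `|T|` is `SCC` -/
def NTC (T : Type*) [Group T] : Prop := ∀ v : ℕ, v.Prime → v ∣ Nat.card T → ¬ SCC T v

/-- the index of `R` is not `1` modulo any prime divisor of `|Out T|` -/
def NoOne (T : Type*) [Group T] (R : Subgroup T) : Prop :=
  ∀ s : ℕ, s.Prime → s ∣ Nat.card (Cfsg.Out T) → ¬ R.index ≡ 1 [MOD s]

/-- every outer automorphism leaving `R` and some `N`, `R < N < T`, invariant has, up to inner automorphisms by elements of
`R`, a second fixed coset -/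
def OutBadN (T : Type*) [Group T] (R : Subgroup T) : Prop :=
  ∀ φ : T ≃* T, (∀ t : T, φ ≠ MulAut.conj t) → R.map φ.toMonoidHom = R →
    (∃ N : Subgroup T, R < N ∧ N < ⊤ ∧ N.map φ.toMonoidHom = N) → ∃ r ∈ R, ∃ t : T, t ∉ R ∧ t⁻¹ * (r * φ t * r⁻¹) ∈ R

/-- every outer coset contains elements of two different orders -/
def Cos (T : Type*) [Group T] : Prop :=
  ∀ φ : MulAut T, (∀ t : T, φ ≠ MulAut.conj t) → ∃ t : T, orderOf (MulAut.conj t * φ) ≠ orderOf φ

/-- the final condition for a non-maximal subgroup -/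
def Fin3 (T : Type*) [Group T] (R : Subgroup T) : Prop :=
  Three T R ∨ (ThreeT T R ∧ Two T R ∧ (NoOne T R ∨ OutBadN T R))

/-- **The row** (strong form). -/
def RowS (T : Type*) [Group T] : Prop :=
  (∀ M : Subgroup T, IsCoatom M → Two T M) ∧ ∀ R : Subgroup T, R ≠ ⊤ → ¬ IsCoatom R → Three T R

/-- the row, weak form -/
def RowW (T : Type*) [Group T] : Prop :=
  ((∀ M : Subgroup T, IsCoatom M → Two T M) ∨ (Cos T ∧ ∀ M : Subgroup T, IsCoatom M → Miss T M)) ∧
    ∀ R : Subgroup T, R ≠ ⊤ → ¬ IsCoatom R → Fin3 T R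

/-- the row for `A₅` -/
def RowA (T : Type*) [Group T] : Prop :=
  Nat.card T = 60 ∧ Cos T ∧ (∀ M : Subgroup T, IsCoatom M → Miss T M) ∧
    ∀ R : Subgroup T, R ≠ ⊤ → ¬ IsCoatom R → Fin3 T R ∨ (R.index = 12 ∧ Two T R ∧ NoOne T R)

section three

variable {T : Type*} [Group T] {K R : Subgroup T}

theorem Three.mono (h : Three T K) (hRK : R ≤ K) : Three T R := by
  obtain ⟨x, y, z, hx, hy, hz, h1⟩ := h
  exact ⟨x, y, z, fun φ hφ => hx φ (hRK hφ), fun φ hφ => hy φ (hRK hφ), fun φ hφ => hz φ (hRK hφ), h1⟩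

theorem ThreeT.mono (h : ThreeT T K) (hRK : R ≤ K) : ThreeT T R := by
  obtain ⟨x, y, z, hx, hy, hz, h1⟩ := h
  exact ⟨x, y, z, fun φ hφ => hx φ (hRK hφ), fun φ hφ => hy φ (hRK hφ), fun φ hφ => hz φ (hRK hφ), h1⟩

theorem Three.threeT (h : Three T R) : ThreeT T R := by
  obtain ⟨x, y, z, hx, hy, hz, h1, h2, h3⟩ := h
  refine ⟨x, y, z, fun g => ?_, fun g => ?_, fun g => ?_, fun g => ?_, fun g => ?_, fun g => ?_⟩
  · simpa using hx (MulAut.conj g)
  · simpa using hy (MulAut.conj g)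
  · simpa using hz (MulAut.conj g)
  · simpa using h1 (MulAut.conj g)
  · simpa using h2 (MulAut.conj g)
  · simpa using h3 (MulAut.conj g)

theorem Three.two (h : Three T R) : Two T R := by
  obtain ⟨x, y, z, hx, hy, hz, h1, h2, h3⟩ := h
  exact ⟨x, y, hx, hy, h1⟩

theorem Two.miss (h : Two T R) : Miss T R := by
  obtain ⟨x, y, hx, hy, h1⟩ := h
  exact ⟨x, hx⟩

/-- three missing element orders -/
theorem Three.of_orders {a b c : ℕ} (hab : a ≠ b) (hac : a ≠ c) (hbc : b ≠ c) {x y z : T} (hx : orderOf x = a)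
    (hy : orderOf y = b) (hz : orderOf z = c) (ha : ∀ m ∈ R, orderOf m ≠ a) (hb : ∀ m ∈ R, orderOf m ≠ b)
    (hc : ∀ m ∈ R, orderOf m ≠ c) : Three T R := by
  refine ⟨x, y, z, fun φ hφ => ha _ hφ ?_, fun φ hφ => hb _ hφ ?_, fun φ hφ => hc _ hφ ?_,
    fun φ hφ => hab ?_, fun φ hφ => hac ?_, fun φ hφ => hbc ?_⟩
  · rw [orderOf_mulEquiv, hx]
  · rw [orderOf_mulEquiv, hy]
  · rw [orderOf_mulEquiv, hz]
  · rw [← hx, ← hy, ← hφ, orderOf_mulEquiv]
  · rw [← hx, ← hz, ← hφ, orderOf_mulEquiv]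
  · rw [← hy, ← hz, ← hφ, orderOf_mulEquiv]

/-- a missing number `v` with more than two classes of elements of order divisible by `v` -/
theorem Three.of_not_dvd {v : ℕ} (hv : ¬ v ∣ Nat.card R) (h : ¬ SCC T v) (h1 : ∃ x : T, v ∣ orderOf x) : Three T R := by
  unfold SCC at h
  push Not at h
  obtain ⟨x, hx⟩ := h1
  obtain ⟨y, hy, hxy, -⟩ := h x x
  obtain ⟨z, hz, hxz, hyz⟩ := h x y
  exact ⟨x, y, z, not_mem_of_dvd hv hx, not_mem_of_dvd hv hy, not_mem_of_dvd hv hz, hxy, hxz, hyz⟩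

theorem Three.of_pgap [Finite T] (h : NTC T) (hM : PGap T R) : Three T R := by
  obtain ⟨v, hv, h1, h2⟩ := hM
  have := Fact.mk hv
  obtain ⟨x, hx⟩ := exists_prime_orderOf_dvd_card' v h1
  exact Three.of_not_dvd h2 (h v hv h1) ⟨x, by rw [hx]⟩

/-- a missing number `v` with two classes, and another missing element of order prime to `v` -/
theorem Three.of_not_SC {v : ℕ} (hv : ¬ v ∣ Nat.card R) (h : ¬ SC T v) {z : T} (hz : ∀ φ : T ≃* T, φ z ∉ R)
    (hvz : ¬ v ∣ orderOf z) : Three T R := by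
  unfold SC at h
  push Not at h
  obtain ⟨x, y, hx, hy, hxy⟩ := h
  refine ⟨x, y, z, not_mem_of_dvd hv hx, not_mem_of_dvd hv hy, hz, hxy, fun φ hφ => hvz ?_, fun φ hφ => hvz ?_⟩
  · rwa [← hφ, orderOf_mulEquiv]
  · rwa [← hφ, orderOf_mulEquiv]

/-- a missing number `v` with two classes, and another missing element order prime to `v` -/
theorem Three.of_not_SC_order {v c : ℕ} (hv : ¬ v ∣ Nat.card R) (h : ¬ SC T v) {z : T} (hz : orderOf z = c)
    (hc : ∀ m ∈ R, orderOf m ≠ c) (hvz : ¬ v ∣ c) : Three T R :=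
  Three.of_not_SC hv h (fun φ hφ => hc _ hφ (by rw [orderOf_mulEquiv, hz])) (by rwa [hz])

/-- two missing primes, one of them with two classes -/
theorem Three.of_two_primes [Finite T] {v w : ℕ} (hv : v.Prime) (hw : w.Prime) (hvw : v ≠ w) (h2 : w ∣ Nat.card T)
    (h3 : ¬ v ∣ Nat.card R) (h4 : ¬ w ∣ Nat.card R) (h : ¬ SC T v) : Three T R := by
  have := Fact.mk hw
  obtain ⟨z, hz⟩ := exists_prime_orderOf_dvd_card' w h2
  refine Three.of_not_SC h3 h (z := z) (not_mem_of_dvd h4 (by rw [hz])) ?_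
  rw [hz]
  exact fun h5 => hvw ((Nat.prime_dvd_prime_iff_eq hv hw).1 h5)

/-- three missing primes -/
theorem Three.of_three_primes [Finite T] {u v w : ℕ} (hu : u.Prime) (hv : v.Prime) (hw : w.Prime) (huv : u ≠ v)
    (huw : u ≠ w) (hvw : v ≠ w) (h0 : u ∣ Nat.card T) (h1 : v ∣ Nat.card T) (h2 : w ∣ Nat.card T)
    (h3 : ¬ u ∣ Nat.card R) (h4 : ¬ v ∣ Nat.card R) (h5 : ¬ w ∣ Nat.card R) : Three T R := by
  have := Fact.mk hu
  have := Fact.mk hv
  have := Fact.mk hw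
  obtain ⟨x, hx⟩ := exists_prime_orderOf_dvd_card' u h0
  obtain ⟨y, hy⟩ := exists_prime_orderOf_dvd_card' v h1
  obtain ⟨z, hz⟩ := exists_prime_orderOf_dvd_card' w h2
  refine ⟨x, y, z, not_mem_of_dvd h3 (by rw [hx]), not_mem_of_dvd h4 (by rw [hy]), not_mem_of_dvd h5 (by rw [hz]),
    fun φ hφ => huv ?_, fun φ hφ => huw ?_, fun φ hφ => hvw ?_⟩
  · rw [← hx, ← hy, ← hφ, orderOf_mulEquiv]
  · rw [← hx, ← hz, ← hφ, orderOf_mulEquiv]
  · rw [← hy, ← hz, ← hφ, orderOf_mulEquiv]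

/-- three elements with pairwise different orders divisible by a missing prime -/
theorem not_SCC_of_orders {v : ℕ} {x y z : T} (hx : v ∣ orderOf x) (hy : v ∣ orderOf y) (hz : v ∣ orderOf z)
    (hxy : orderOf x ≠ orderOf y) (hxz : orderOf x ≠ orderOf z) (hyz : orderOf y ≠ orderOf z) : ¬ SCC T v := by
  rintro ⟨a, b, h⟩
  have key : ∀ u : T, v ∣ orderOf u → orderOf u = orderOf a ∨ orderOf u = orderOf b := by
    intro u hu
    rcases h u hu with ⟨φ, rfl⟩ | ⟨φ, rfl⟩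
    · exact Or.inl (orderOf_mulEquiv φ a)
    · exact Or.inr (orderOf_mulEquiv φ b)
  rcases key x hx with h1 | h1 <;> rcases key y hy with h2 | h2 <;> rcases key z hz with h3 | h3
  · exact hxy (h1.trans h2.symm)
  · exact hxy (h1.trans h2.symm)
  · exact hxz (h1.trans h3.symm)
  · exact hyz (h2.trans h3.symm)
  · exact hyz (h2.trans h3.symm)
  · exact hxz (h1.trans h3.symm)
  · exact hxy (h1.trans h2.symm)
  · exact hxy (h1.trans h2.symm)

/-- if there are not three elements pairwise non-conjugate: `¬ SCC` from three pairwise non-conjugate elements -/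
theorem not_SCC_of_three {v : ℕ} {x y z : T} (hx : v ∣ orderOf x) (hy : v ∣ orderOf y) (hz : v ∣ orderOf z)
    (hxy : ∀ φ : T ≃* T, φ x ≠ y) (hxz : ∀ φ : T ≃* T, φ x ≠ z) (hyz : ∀ φ : T ≃* T, φ y ≠ z) : ¬ SCC T v := by
  rintro ⟨a, b, h⟩
  have key : ∀ u w c : T, (∃ φ : T ≃* T, φ c = u) → (∃ φ : T ≃* T, φ c = w) → ∃ φ : T ≃* T, φ u = w := by
    rintro u w c ⟨φ, rfl⟩ ⟨ψ, rfl⟩
    exact ⟨φ.symm.trans ψ, by simp⟩
  rcases h x hx with h1 | h1 <;> rcases h y hy with h2 | h2 <;> rcases h z hz with h3 | h3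
  · obtain ⟨φ, hφ⟩ := key _ _ _ h1 h2; exact hxy φ hφ
  · obtain ⟨φ, hφ⟩ := key _ _ _ h1 h2; exact hxy φ hφ
  · obtain ⟨φ, hφ⟩ := key _ _ _ h1 h3; exact hxz φ hφ
  · obtain ⟨φ, hφ⟩ := key _ _ _ h2 h3; exact hyz φ hφ
  · obtain ⟨φ, hφ⟩ := key _ _ _ h2 h3; exact hyz φ hφ
  · obtain ⟨φ, hφ⟩ := key _ _ _ h1 h3; exact hxz φ hφ
  · obtain ⟨φ, hφ⟩ := key _ _ _ h1 h2; exact hxy φ hφ
  · obtain ⟨φ, hφ⟩ := key _ _ _ h1 h2; exact hxy φ hφ

/-- **The strong row from the maximal subgroups.** -/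
theorem RowS.of_three [Finite T] (h : ∀ M : Subgroup T, IsCoatom M → Three T M) : RowS T := by
  refine ⟨fun M hM => (h M hM).two, fun R hR _ => ?_⟩
  rcases eq_top_or_exists_le_coatom R with h1 | ⟨M, hM, h1⟩
  · exact absurd h1 hR
  · exact (h M hM).mono h1

theorem RowS.of_pgap [Finite T] (h : NTC T) (hM : ∀ M : Subgroup T, IsCoatom M → PGap T M) : RowS T :=
  RowS.of_three fun M hM' => Three.of_pgap h (hM M hM')

/-- the strong row from the maximal subgroups, where the exceptional maximal subgroups need their proper subgroups only -/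
theorem RowS.of_coatoms [Finite T] (h : ∀ M : Subgroup T, IsCoatom M → Three T M ∨ (Two T M ∧ ∀ R < M, Three T R)) :
    RowS T := by
  refine ⟨fun M hM => (h M hM).elim Three.two And.left, fun R hR hRc => ?_⟩
  rcases eq_top_or_exists_le_coatom R with h1 | ⟨M, hM, h1⟩
  · exact absurd h1 hR
  · rcases h M hM with h2 | ⟨-, h2⟩
    · exact h2.mono h1
    · exact h2 R (lt_of_le_of_ne h1 fun h3 => hRc (h3 ▸ hM))

theorem RowS.rowW (h : RowS T) : RowW T := ⟨Or.inl h.1, fun R hR hR' => Or.inl (h.2 R hR hR')⟩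

theorem RowS.row (h : RowS T) : Row T := fun M hM => Or.inl (h.1 M hM)

theorem NTC.nsc (h : NTC T) : NSC T := by
  intro v hv hd hs
  by_cases hne : ∃ x : T, v ∣ orderOf x
  · obtain ⟨x, hx⟩ := hne
    exact h v hv hd ⟨x, x, fun z hz => Or.inl (hs x z hx hz)⟩
  · exact h v hv hd ⟨1, 1, fun z hz => absurd ⟨z, hz⟩ hne⟩

end three

section congr

variable {T S : Type*} [Group T] [Group S]

theorem Three.congr {K : Subgroup S} (e : T ≃* S) (h : Three T (K.comap e.toMonoidHom)) : Three S K := by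
  obtain ⟨x, y, z, hx, hy, hz, h1, h2, h3⟩ := h
  refine ⟨e x, e y, e z, fun φ hφ => hx ((e.trans φ).trans e.symm) ?_, fun φ hφ => hy ((e.trans φ).trans e.symm) ?_,
    fun φ hφ => hz ((e.trans φ).trans e.symm) ?_, fun φ hφ => h1 ((e.trans φ).trans e.symm) ?_,
    fun φ hφ => h2 ((e.trans φ).trans e.symm) ?_, fun φ hφ => h3 ((e.trans φ).trans e.symm) ?_⟩
  · simpa using hφ
  · simpa using hφ
  · simpa using hφ
  · simp [hφ]
  · simp [hφ]
  · simp [hφ]

theorem ThreeT.congr {K : Subgroup S} (e : T ≃* S) (h : ThreeT T (K.comap e.toMonoidHom)) : ThreeT S K := by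
  obtain ⟨x, y, z, hx, hy, hz, h1, h2, h3⟩ := h
  refine ⟨e x, e y, e z, fun g hg => hx (e.symm g) ?_, fun g hg => hy (e.symm g) ?_, fun g hg => hz (e.symm g) ?_,
    fun g hg => h1 (e.symm g) ?_, fun g hg => h2 (e.symm g) ?_, fun g hg => h3 (e.symm g) ?_⟩
  · simpa using hg
  · simpa using hg
  · simpa using hg
  · apply e.injective
    simpa using hg
  · apply e.injective
    simpa using hg
  · apply e.injective
    simpa using hg

theorem Miss.congr' {K : Subgroup S} (e : T ≃* S) (h : Miss T (K.comap e.toMonoidHom)) : Miss S K := by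
  obtain ⟨x, hx⟩ := h
  refine ⟨e x, fun φ hφ => hx ((e.trans φ).trans e.symm) ?_⟩
  simpa using hφ

theorem NoOne.congr {K : Subgroup S} (e : T ≃* S) (h : NoOne T (K.comap e.toMonoidHom)) : NoOne S K := by
  intro s hs hd h1
  refine h s hs (by rwa [card_out_congr e]) ?_
  rwa [index_comap_eq e]

theorem comap_lt_comap {K L : Subgroup S} (e : T ≃* S) (h : K < L) : K.comap e.toMonoidHom < L.comap e.toMonoidHom := by
  refine lt_of_le_of_ne (Subgroup.comap_mono h.le) fun h1 => h.ne ?_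
  exact Subgroup.comap_injective e.surjective h1

theorem OutBadN.congr {K : Subgroup S} (e : T ≃* S) (h : OutBadN T (K.comap e.toMonoidHom)) : OutBadN S K := by
  rintro φ hφ hK ⟨N, hN1, hN2, hN3⟩
  obtain ⟨r, hr, t, ht, h1⟩ := h ((e.trans φ).trans e.symm) (fun t h2 => hφ (e t) (by
      ext s
      have h3 := congrArg e (DFunLike.congr_fun h2 (e.symm s))
      simpa using h3)) (map_comap_eq e φ hK) ⟨N.comap e.toMonoidHom, comap_lt_comap e hN1,
      by simpa using comap_lt_comap e hN2, map_comap_eq e φ hN3⟩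
  exact ⟨e r, hr, e t, fun h2 => ht h2, by simpa using h1⟩

theorem Cos.congr (e : T ≃* S) (h : Cos T) : Cos S := by
  intro φ hφ
  obtain ⟨t, ht⟩ := h ((MulAut.congr e).symm φ) (fun t h2 => hφ (e t) (by
      rw [MulEquiv.symm_apply_eq] at h2
      rw [h2]
      ext s
      simp [MulAut.congr]))
  refine ⟨e t, fun h1 => ht ?_⟩
  have h2 : MulAut.conj (e t) = MulAut.congr e (MulAut.conj t) := by
    ext s
    simp [MulAut.congr]
  have h3 : MulAut.conj t * (MulAut.congr e).symm φ = (MulAut.congr e).symm (MulAut.conj (e t) * φ) := by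
    rw [map_mul, h2, MulEquiv.symm_apply_apply]
  rw [h3]
  have h4 : ∀ ψ : MulAut S, orderOf ((MulAut.congr e).symm ψ) = orderOf ψ := fun ψ =>
    orderOf_injective (MulAut.congr e).symm.toMonoidHom (MulAut.congr e).symm.injective ψ
  rw [h4, h4, h1]

theorem Fin3.congr {K : Subgroup S} (e : T ≃* S) (h : Fin3 T (K.comap e.toMonoidHom)) : Fin3 S K := by
  rcases h with h | ⟨h1, h2, h3 | h3⟩
  · exact Or.inl (h.congr e)
  · exact Or.inr ⟨h1.congr e, h2.congr e, Or.inl (h3.congr e)⟩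
  · exact Or.inr ⟨h1.congr e, h2.congr e, Or.inr (h3.congr e)⟩

theorem not_isCoatom_comap {K : Subgroup S} (e : T ≃* S) (h : ¬ IsCoatom K) : ¬ IsCoatom (K.comap e.toMonoidHom) := by
  intro h1
  apply h
  have h2 := Cfsg.Agent.H278.El.isCoatom_comap e.symm h1
  have h3 : (K.comap e.toMonoidHom).comap e.symm.toMonoidHom = K := by
    ext x
    simp
  rwa [h3] at h2

theorem RowS.congr (e : T ≃* S) (h : RowS T) : RowS S :=
  ⟨fun M hM => (h.1 _ (Cfsg.Agent.H278.El.isCoatom_comap e hM)).congr e,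
    fun R hR hR' => (h.2 _ (comap_ne_top e hR) (not_isCoatom_comap e hR')).congr e⟩

theorem RowW.congr (e : T ≃* S) (h : RowW T) : RowW S := by
  refine ⟨?_, fun R hR hR' => (h.2 _ (comap_ne_top e hR) (not_isCoatom_comap e hR')).congr e⟩
  rcases h.1 with h1 | ⟨h1, h2⟩
  · exact Or.inl fun M hM => (h1 _ (Cfsg.Agent.H278.El.isCoatom_comap e hM)).congr e
  · exact Or.inr ⟨h1.congr e, fun M hM => Miss.congr' e (h2 _ (Cfsg.Agent.H278.El.isCoatom_comap e hM))⟩

theorem RowA.congr (e : T ≃* S) (h : RowA T) : RowA S := by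
  refine ⟨by rw [← h.1]; exact (Nat.card_congr e.toEquiv).symm, h.2.1.congr e,
    fun M hM => Miss.congr' e (h.2.2.1 _ (Cfsg.Agent.H278.El.isCoatom_comap e hM)), fun R hR hR' => ?_⟩
  rcases h.2.2.2 _ (comap_ne_top e hR) (not_isCoatom_comap e hR') with h1 | ⟨h1, h2, h3⟩
  · exact Or.inl (h1.congr e)
  · exact Or.inr ⟨by rwa [index_comap_eq e] at h1, h2.congr e, h3.congr e⟩

end congr

end Cfsg.Agent.H439.Der
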