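import Cfsg.Agent.S3501
import Cfsg.Agent.H439.Der.Tools
import Cfsg.Agent.H934.OutB

/-!
# One class of derangements (S3500): the almost simple situation

`Sit G Ω T`: `G` primitive on `Ω`, all derangements conjugate, `T` the nonabelian simple socle.  Facts:
all derangements lie in `T`, elements outside `T` have exactly one fixed point, `|Ω| ≡ 1 (mod s)` for all primes
`s ∣ |G : T|`.  `R a = T ∩ G_a` (subgroup of `T`).
-/

set_option autoImplicit false

namespace Cfsg.Agent.H439.Der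

open Subgroup MulAction

section burn

variable {G : Type*} [Group G] [Finite G] {Ω : Type*} [Finite Ω] [MulAction G Ω]

/-- **Burnside's lemma for a coset** of a transitive normal subgroup: if every element outside `N` has a fixed point, it has
exactly one. -/
theorem out_one (N : Subgroup G) (htr : ∀ a b : Ω, ∃ n ∈ N, n • a = b) 
    (h : ∀ g : G, g ∉ N → ∃ a : Ω, g • a = a) (g : G) (hg : g ∉ N) : ∃! a : Ω, g • a = a := by
  classical
  have := Fintype.ofFinite G
  have := Fintype.ofFinite Ω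
  have := Fintype.ofFinite N
  obtain ⟨a0, ha0⟩ := h g hg
  have hne : Nonempty Ω := ⟨a0⟩
  have htr' : IsPretransitive N Ω := ⟨fun a b => by
    obtain ⟨n, hn, h1⟩ := htr a b
    exact ⟨⟨n, hn⟩, h1⟩⟩
  -- the number of `n ∈ N` with `n g a = a`
  have h1 : ∀ a : Ω, (Finset.univ.filter fun n : N => ((n : G) * g) • a = a).card * Fintype.card Ω = Fintype.card N := by
    intro a
    obtain ⟨n0, hn0, h2⟩ := htr (g • a) a
    have h3 : (Finset.univ.filter fun n : N => ((n : G) * g) • a = a).card = Fintype.card (stabilizer N a) := by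
      rw [Fintype.card_subtype]
      refine Finset.card_bij' (fun n _ => n * ⟨n0, hn0⟩⁻¹) (fun n _ => n * ⟨n0, hn0⟩) ?_ ?_ ?_ ?_
      · intro n hn
        rw [Finset.mem_filter] at hn ⊢
        refine ⟨Finset.mem_univ _, ?_⟩
        have h4 := hn.2
        show ((n : G) * n0⁻¹) • a = a
        rw [mul_smul, inv_smul_eq_iff.2 h2.symm, ← mul_smul]
        exact h4
      · intro n hn
        rw [Finset.mem_filter] at hn ⊢
        refine ⟨Finset.mem_univ _, ?_⟩
        have h4 : (n : G) • a = a := hn.2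
        show ((n : G) * n0 * g) • a = a
        rw [mul_smul, mul_smul, h2, h4]
      · intro n _
        simp
      · intro n _
        simp
    rw [h3, mul_comm, ← Nat.card_eq_fintype_card, ← Nat.card_eq_fintype_card, ← Nat.card_eq_fintype_card,
      ← MulAction.index_stabilizer_of_transitive N a]
    exact Subgroup.index_mul_card _
  have h2 : ∑ n : N, (Finset.univ.filter fun a : Ω => ((n : G) * g) • a = a).card = Fintype.card N := by
    have h3 : ∑ n : N, (Finset.univ.filter fun a : Ω => ((n : G) * g) • a = a).card =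
        ∑ a : Ω, (Finset.univ.filter fun n : N => ((n : G) * g) • a = a).card :=
      Finset.sum_card_bipartiteAbove_eq_sum_card_bipartiteBelow (fun (n : N) (a : Ω) => ((n : G) * g) • a = a)
    have h4 : (∑ a : Ω, (Finset.univ.filter fun n : N => ((n : G) * g) • a = a).card) * Fintype.card Ω =
        Fintype.card N * Fintype.card Ω := by
      rw [Finset.sum_mul, Finset.sum_congr rfl fun a _ => h1 a, Finset.sum_const, Finset.card_univ, smul_eq_mul, mul_comm]
    rw [h3]
    exact Nat.eq_of_mul_eq_mul_right (Fintype.card_pos (α := Ω)) h4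
  have h3 : ∀ n : N, 1 ≤ (Finset.univ.filter fun a : Ω => ((n : G) * g) • a = a).card := by
    intro n
    obtain ⟨a, ha⟩ := h (n * g) fun hh => hg (by simpa using N.mul_mem (N.inv_mem n.2) hh)
    exact Finset.card_pos.2 ⟨a, by simp [ha]⟩
  have h4 : ∀ n ∈ (Finset.univ : Finset N), (1 : ℕ) = (Finset.univ.filter fun a : Ω => ((n : G) * g) • a = a).card := by
    rw [← Finset.sum_eq_sum_iff_of_le fun n _ => h3 n, h2]
    simp
  have h5 := h4 1 (Finset.mem_univ _)
  rw [eq_comm, Finset.card_eq_one] at h5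
  obtain ⟨a, ha⟩ := h5
  refine ⟨a, ?_, fun b hb => ?_⟩
  · have : a ∈ (Finset.univ.filter fun a : Ω => (((1 : N) : G) * g) • a = a) := by rw [ha]; simp
    simpa using this
  · have : b ∈ (Finset.univ.filter fun a : Ω => (((1 : N) : G) * g) • a = a) := by
      rw [Finset.mem_filter]
      exact ⟨Finset.mem_univ _, by simpa using hb⟩
    rw [ha] at this
    simpa using this

end burn

section sit

/-- two elements of `T` without `T`-conjugates in `R`, not fused by automorphisms leaving `R` invariant -/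
def TwoR (T : Type*) [Group T] (R : Subgroup T) : Prop :=
  ∃ x y : T, (∀ g : T, g * x * g⁻¹ ∉ R) ∧ (∀ g : T, g * y * g⁻¹ ∉ R) ∧
    ∀ φ : T ≃* T, R.map φ.toMonoidHom = R → ∀ g : T, g * φ x * g⁻¹ ≠ y

/-- every outer automorphism leaving `R` invariant has, up to inner automorphisms by elements of `R`, a second fixed coset -/
def OutBad (T : Type*) [Group T] (R : Subgroup T) : Prop :=
  ∀ φ : T ≃* T, (∀ t : T, φ ≠ MulAut.conj t) → R.map φ.toMonoidHom = R →
    ∃ r ∈ R, ∃ t : T, t ∉ R ∧ t⁻¹ * (r * φ t * r⁻¹) ∈ R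

/-- the situation: `G` primitive on `Ω` with one class of derangements, `T` the nonabelian simple socle -/
structure Sit (G : Type*) [Group G] (Ω : Type*) [MulAction G Ω] (T : Subgroup G) : Prop where
  normal : T.Normal
  simple : IsSimpleGroup T
  nab : ¬ IsMulCommutative T
  cent : Subgroup.centralizer (T : Set G) = ⊥
  two : 2 ≤ Nat.card Ω
  prim : IsPreprimitive G Ω
  trans : ∀ a b : Ω, ∃ t ∈ T, t • a = b
  one : ∀ x y : G, (∀ a : Ω, x • a ≠ a) → (∀ a : Ω, y • a ≠ a) → ∃ g : G, g * x * g⁻¹ = y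
  mem : ∀ x : G, (∀ a : Ω, x • a ≠ a) → x ∈ T
  out : ∀ g : G, g ∉ T → ∃! a : Ω, g • a = a

variable {G : Type*} [Group G] [Finite G] {Ω : Type*} [Finite Ω] [MulAction G Ω] {T : Subgroup G}

theorem sit_of [FaithfulSMul G Ω] (hΩ : 2 ≤ Nat.card Ω) (hprim : IsPreprimitive G Ω) (hT : T.Normal)
    (hs : IsSimpleGroup T) (hna : ¬ IsMulCommutative T) (hc : Subgroup.centralizer (T : Set G) = ⊥)
    (hone : ∀ x y : G, (∀ a : Ω, x • a ≠ a) → (∀ a : Ω, y • a ≠ a) → ∃ g : G, g * x * g⁻¹ = y) : Sit G Ω T := by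
  have := Fintype.ofFinite Ω
  have hne : T ≠ ⊥ := by
    rintro rfl
    exact not_subsingleton (⊥ : Subgroup G) inferInstance
  have htr := S3501.normal_trans hprim T hne
  have hmem : ∀ x : G, (∀ a : Ω, x • a ≠ a) → x ∈ T := by
    intro x hx
    obtain ⟨y, hy, hy'⟩ := S3501.exists_der_of_trans (by rwa [← Nat.card_eq_fintype_card]) T htr
    obtain ⟨g, rfl⟩ := hone y x hy' hx
    exact hT.conj_mem y hy g
  refine ⟨hT, hs, hna, hc, hΩ, hprim, htr, hone, hmem, fun g hg => ?_⟩
  refine out_one T htr (fun g hg => ?_) g hg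
  by_contra hcon
  push Not at hcon
  exact hg (hmem g hcon)

/-- the stabiliser in `T` -/
abbrev stabT (T : Subgroup G) (a : Ω) : Subgroup T := (stabilizer G a).subgroupOf T

theorem mem_stabT {a : Ω} {t : T} : t ∈ stabT T a ↔ (t : G) • a = a := by
  rw [mem_subgroupOf, mem_stabilizer_iff]

namespace Sit

variable (h : Sit G Ω T)

include h

theorem index_stabT (a : Ω) : (stabT T a).index = Nat.card Ω := by
  have htr' : IsPretransitive T Ω := ⟨fun a b => by
    obtain ⟨n, hn, h1⟩ := h.trans a b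
    exact ⟨⟨n, hn⟩, h1⟩⟩
  rw [← MulAction.index_stabilizer_of_transitive T a]
  rfl

theorem stabT_ne_top (a : Ω) : stabT T a ≠ ⊤ := by
  intro h1
  have h2 := h.index_stabT a
  rw [h1, index_top] at h2
  have := h.two
  omega

/-- `|Ω| ≡ 1 (mod s)` for all primes `s ∣ |G : T|` -/
theorem mod (s : ℕ) (hs : s.Prime) (hd : s ∣ T.index) : Nat.card Ω ≡ 1 [MOD s] := by
  have hT := h.normal
  have := Fact.mk hs
  -- an element of `s`-power order outside `T`
  have h1 : s ∣ Nat.card (G ⧸ T) := hd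
  obtain ⟨q, hq⟩ := exists_prime_orderOf_dvd_card' s h1
  obtain ⟨g, rfl⟩ := QuotientGroup.mk_surjective q
  obtain ⟨k, m, hm, hkm⟩ := Nat.exists_eq_pow_mul_and_not_dvd (orderOf_pos g).ne' s hs.ne_one
  have h2 : g ^ m ∉ T := by
    intro h3
    rw [← QuotientGroup.eq_one_iff, QuotientGroup.mk_pow] at h3
    have h4 := orderOf_dvd_of_pow_eq_one h3
    rw [hq] at h4
    exact hm h4
  obtain ⟨a, ha, ha'⟩ := h.out _ h2
  have hp : IsPGroup s (zpowers (g ^ m)) := by
    rintro ⟨x, j, rfl⟩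
    refine ⟨k, Subtype.ext ?_⟩
    show ((g ^ m) ^ j) ^ s ^ k = 1
    rw [← zpow_natCast, ← zpow_mul, mul_comm, zpow_mul, zpow_natCast, ← pow_mul, mul_comm m, ← hkm, pow_orderOf_eq_one,
      one_zpow]
  have h3 := hp.card_modEq_card_fixedPoints Ω
  have h4 : Nat.card (fixedPoints (zpowers (g ^ m)) Ω) = 1 := by
    rw [Nat.card_eq_one_iff_unique]
    have h5 : ∀ b : Ω, b ∈ fixedPoints (zpowers (g ^ m)) Ω → b = a := fun b hb =>
      ha' b (hb ⟨g ^ m, mem_zpowers _⟩)
    refine ⟨⟨fun b c => Subtype.ext ((h5 _ b.2).trans (h5 _ c.2).symm)⟩, ⟨⟨a, ?_⟩⟩⟩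
    rintro ⟨x, j, rfl⟩
    exact zpow_mem (K := stabilizer G a) (show g ^ m ∈ stabilizer G a from ha) j
  rwa [h4] at h3

/-- derangements in `T` -/
theorem der_of {a : Ω} {x : T} (hx : ∀ g : T, g * x * g⁻¹ ∉ stabT T a) (b : Ω) : (x : G) • b ≠ b := by
  intro hb
  obtain ⟨t, ht, rfl⟩ := h.trans a b
  apply hx ⟨t, ht⟩⁻¹
  rw [mem_stabT]
  show (t⁻¹ * (x : G) * t⁻¹⁻¹) • a = a
  rw [inv_inv, mul_smul, mul_smul, hb, inv_smul_smul]

/-- two elements of `T` without conjugates in the stabiliser are conjugate in `G` -/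
theorem conj {a : Ω} {x y : T} (hx : ∀ g : T, g * x * g⁻¹ ∉ stabT T a) (hy : ∀ g : T, g * y * g⁻¹ ∉ stabT T a) :
    ∃ g : G, g * (x : G) * g⁻¹ = y := h.one _ _ (h.der_of hx) (h.der_of hy)

/-- the fusion of classes of `T` is by automorphisms which leave the stabiliser invariant -/
theorem exists_map_eq {a : Ω} {x y : T} (hx : ∀ g : T, g * x * g⁻¹ ∉ stabT T a) (hy : ∀ g : T, g * y * g⁻¹ ∉ stabT T a) :
    ∃ φ : T ≃* T, (stabT T a).map φ.toMonoidHom = stabT T a ∧ ∃ t : T, t * φ x * t⁻¹ = y := by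
  have hT := h.normal
  obtain ⟨g, hg⟩ := h.conj hx hy
  obtain ⟨t, ht, h1⟩ := h.trans (g • a) a
  refine ⟨MulAut.conjNormal (t * g), ?_, ⟨t, ht⟩⁻¹, ?_⟩
  · have h2 : (t * g) • a = a := by rw [mul_smul, h1]
    have h3 : ∀ k : G, k • a = a → (stabT T a).map (MulAut.conjNormal (H := T) k).toMonoidHom ≤ stabT T a := by
      rintro k hk _ ⟨x, hx, rfl⟩
      have hx' : (x : G) • a = a := mem_stabT.1 hx
      rw [mem_stabT]
      show ((MulAut.conjNormal k x : T) : G) • a = a
      rw [MulAut.conjNormal_apply, mul_smul, mul_smul, inv_smul_eq_iff.2 hk.symm, hx', hk]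
    refine le_antisymm (h3 _ h2) fun x hx => ?_
    refine ⟨MulAut.conjNormal (H := T) (t * g)⁻¹ x, h3 (t * g)⁻¹ (inv_smul_eq_iff.2 h2.symm) ⟨x, hx, rfl⟩, ?_⟩
    show MulAut.conjNormal (H := T) (t * g) (MulAut.conjNormal (H := T) (t * g)⁻¹ x) = x
    rw [← MulAut.mul_apply, ← map_mul, mul_inv_cancel, map_one]
    rfl
  · apply Subtype.ext
    show t⁻¹ * ((MulAut.conjNormal (t * g) x : T) : G) * t⁻¹⁻¹ = y
    rw [MulAut.conjNormal_apply, ← hg]
    group

theorem false_of_two {a : Ω} (h2 : Two T (stabT T a)) : False := by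
  obtain ⟨x, y, hx, hy, hxy⟩ := h2
  obtain ⟨φ, -, t, ht⟩ := h.exists_map_eq (a := a) (x := x) (y := y) (fun g => by simpa using hx (MulAut.conj g))
    (fun g => by simpa using hy (MulAut.conj g))
  exact hxy (φ.trans (MulAut.conj t)) (by simpa using ht)

theorem false_of_twoT {a : Ω} (hG : T = ⊤) (h2 : TwoT T (stabT T a)) : False := by
  obtain ⟨x, y, hx, hy, hxy⟩ := h2
  obtain ⟨g, hg⟩ := h.conj (a := a) (x := x) (y := y) hx hy
  exact hxy ⟨g, by rw [hG]; exact mem_top g⟩ (Subtype.ext hg)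

theorem index_dvd_out : T.index ∣ Nat.card (Cfsg.Out T) := by
  have hT := h.normal
  have hS := h.simple
  have hinj : Function.Injective (MulAut.conjNormal : G →* MulAut T) := by
    rw [injective_iff_map_eq_one]
    intro g hg
    have h1 : g ∈ centralizer (T : Set G) := by
      rw [Subgroup.mem_centralizer_iff]
      intro x hx
      have h2 : (MulAut.conjNormal g : MulAut T) ⟨x, hx⟩ = ⟨x, hx⟩ := by rw [hg]; rfl
      have h3 : g * x * g⁻¹ = x := by
        have := congrArg Subtype.val h2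
        rwa [MulAut.conjNormal_apply] at this
      exact (mul_inv_eq_iff_eq_mul.1 h3).symm
    rwa [h.cent, Subgroup.mem_bot] at h1
  have h1 := Cfsg.Agent.H934.OutB.card_out_mul T h.nab
  have : Finite (MulAut T) := Finite.of_injective (fun f : MulAut T => (f : T → T)) DFunLike.coe_injective
  have h2 : Nat.card G ∣ Nat.card (MulAut T) := by
    rw [Nat.card_congr (MonoidHom.ofInjective hinj).toEquiv]
    exact Subgroup.card_subgroup_dvd_card _
  rw [← h1, ← Subgroup.card_mul_index T, mul_comm] at h2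
  exact Nat.dvd_of_mul_dvd_mul_right Nat.card_pos h2

theorem nonempty : Nonempty Ω := by
  by_contra hn
  rw [not_nonempty_iff] at hn
  have := h.two
  rw [Nat.card_of_isEmpty] at this
  omega

/-- `|T : R| ≡ 1` modulo every prime divisor of `|G : T|` -/
theorem index_mod {a : Ω} {s : ℕ} (hs : s.Prime) (hd : s ∣ T.index) : (stabT T a).index ≡ 1 [MOD s] := by
  rw [h.index_stabT]
  exact h.mod s hs hd

theorem not_dvd_index {a : Ω} {s : ℕ} (hs : s.Prime) (hd : s ∣ T.index) : ¬ s ∣ (stabT T a).index := by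
  intro h1
  have h2 := (h.index_mod (a := a) hs hd).symm.trans ((Nat.modEq_zero_iff_dvd).2 h1)
  exact hs.one_lt.ne' (Nat.dvd_one.1 ((Nat.modEq_zero_iff_dvd).1 h2))

theorem pow_dvd_card {a : Ω} {s : ℕ} (hs : s.Prime) (hd : s ∣ T.index) :
    s ^ (Nat.card T).factorization s ∣ Nat.card (stabT T a) := by
  have h1 : s ^ (Nat.card T).factorization s ∣ Nat.card (stabT T a) * (stabT T a).index := by
    rw [Subgroup.card_mul_index]
    exact Nat.ordProj_dvd _ _
  exact (Nat.Coprime.pow_left _ ((Nat.Prime.coprime_iff_not_dvd hs).2 (h.not_dvd_index (a := a) hs hd))).dvd_of_dvd_mul_right h1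

/-- **The row excludes the situation.** -/
theorem false_of_row (hr : Row T) : False := by
  obtain ⟨a⟩ := h.nonempty
  rcases eq_top_or_exists_le_coatom (stabT T a) with h1 | ⟨M, hM, h1⟩
  · exact h.stabT_ne_top a h1
  rcases hr M hM with h2 | ⟨h2, h3⟩
  · exact h.false_of_two (h2.mono h1)
  · by_cases hG : T = ⊤
    · exact h.false_of_twoT hG (h2.mono h1)
    · have h4 : T.index ≠ 1 := fun h5 => hG (Subgroup.index_eq_one.1 h5)
      have h5 := Nat.minFac_prime h4
      exact h3.mono h1 _ h5 ((Nat.minFac_dvd _).trans h.index_dvd_out) (h.pow_dvd_card h5 (Nat.minFac_dvd _))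

/-- two elements missing `R`, not fused by automorphisms leaving `R` invariant -/
theorem false_of_twoR {a : Ω} (h2 : TwoR T (stabT T a)) : False := by
  obtain ⟨x, y, hx, hy, hxy⟩ := h2
  obtain ⟨φ, hφ, t, ht⟩ := h.exists_map_eq hx hy
  exact hxy φ hφ t ht

/-- an element missing `R`, not `T`-conjugate to its inverse, for `|G : T|` odd -/
theorem false_of_inv {a : Ω} (hodd : Odd T.index) {x : T} (hx : ∀ g : T, g * x * g⁻¹ ∉ stabT T a)
    (hinv : ∀ g : T, g * x * g⁻¹ ≠ x⁻¹) : False := by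
  have hT := h.normal
  obtain ⟨g, hg⟩ := h.conj (a := a) (x := x) (y := x⁻¹) hx fun g hg => hx g (by
    have := (stabT T a).inv_mem hg
    simpa [mul_assoc] using this)
  have h1 : ∀ n : ℕ, Odd n → g ^ n * (x : G) * (g ^ n)⁻¹ = (x : G)⁻¹ := by
    rintro n ⟨k, rfl⟩
    have h2 : ∀ k : ℕ, g ^ (2 * k) * (x : G) * (g ^ (2 * k))⁻¹ = x := by
      intro k
      induction k with
      | zero => simp
      | succ k ih =>
        have h3 : g ^ (2 * (k + 1)) = g ^ (2 * k) * (g * g) := by rw [mul_add, pow_add, mul_one, pow_two]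
        have h4 : g * g * (x : G) * (g * g)⁻¹ = x := by
          have h5 : g * g * (x : G) * (g * g)⁻¹ = g * (g * x * g⁻¹) * g⁻¹ := by group
          rw [h5, hg]
          have h6 : g * ((x⁻¹ : T) : G) * g⁻¹ = (g * x * g⁻¹)⁻¹ := by rw [coe_inv]; group
          rw [h6, hg, coe_inv, inv_inv]
        calc g ^ (2 * (k + 1)) * (x : G) * (g ^ (2 * (k + 1)))⁻¹ = g ^ (2 * k) * (g * g * x * (g * g)⁻¹) * (g ^ (2 * k))⁻¹ := by
              rw [h3]; group
          _ = x := by rw [h4, ih]
    have h3 : g ^ (2 * k + 1) = g * g ^ (2 * k) := by rw [pow_succ']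
    calc g ^ (2 * k + 1) * (x : G) * (g ^ (2 * k + 1))⁻¹ = g * (g ^ (2 * k) * x * (g ^ (2 * k))⁻¹) * g⁻¹ := by
          rw [h3]; group
      _ = (x : G)⁻¹ := by rw [h2, hg, coe_inv]
  have h2 : g ^ T.index ∈ T := by
    rw [← QuotientGroup.eq_one_iff, QuotientGroup.mk_pow]
    exact pow_card_eq_one'
  exact hinv ⟨_, h2⟩ (Subtype.ext (h1 _ hodd))

/-- an element of the point stabiliser outside `T` -/
theorem exists_out {a : Ω} (hT : T ≠ ⊤) : ∃ g : G, g ∉ T ∧ g • a = a := by
  have h1 : ∃ g : G, g ∉ T := by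
    by_contra hcon
    push Not at hcon
    exact hT (eq_top_iff.2 fun g _ => hcon g)
  obtain ⟨g, hg⟩ := h1
  obtain ⟨t, ht, h1⟩ := h.trans (g • a) a
  exact ⟨t * g, fun h2 => hg (by simpa using T.mul_mem (T.inv_mem ht) h2), by rw [mul_smul, h1]⟩

theorem false_of_outBad {a : Ω} (hG : T ≠ ⊤) (h2 : OutBad T (stabT T a)) : False := by
  have hT := h.normal
  obtain ⟨g, hg, hga⟩ := h.exists_out (a := a) hG
  have h3 : ∀ k : G, k • a = a → (stabT T a).map (MulAut.conjNormal (H := T) k).toMonoidHom ≤ stabT T a := by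
    rintro k hk _ ⟨x, hx, rfl⟩
    have hx' : (x : G) • a = a := mem_stabT.1 hx
    rw [mem_stabT]
    show ((MulAut.conjNormal k x : T) : G) • a = a
    rw [MulAut.conjNormal_apply, mul_smul, mul_smul, inv_smul_eq_iff.2 hk.symm, hx', hk]
  obtain ⟨r, hr, t, ht, h4⟩ := h2 (MulAut.conjNormal (H := T) g) (fun t h5 => by
      apply hg
      have h6 : (t : G)⁻¹ * g ∈ centralizer (T : Set G) := by
        rw [mem_centralizer_iff]
        intro m hm
        have h7 := congrArg (fun f : MulAut T => ((f ⟨m, hm⟩ : T) : G)) h5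
        simp only [MulAut.conj_apply, MulAut.conjNormal_apply, coe_mul, coe_inv] at h7
        rw [mul_inv_eq_iff_eq_mul] at h7
        calc m * ((t : G)⁻¹ * g) = (t : G)⁻¹ * ((t : G) * m * (t : G)⁻¹ * g) := by group
          _ = (t : G)⁻¹ * g * m := by rw [← h7]; group
      rw [h.cent, mem_bot, inv_mul_eq_one] at h6
      rw [← h6]
      exact t.2)
    (by
      refine le_antisymm (h3 _ hga) fun x hx => ?_
      refine ⟨MulAut.conjNormal (H := T) g⁻¹ x, h3 g⁻¹ (inv_smul_eq_iff.2 hga.symm) ⟨x, hx, rfl⟩, ?_⟩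
      show MulAut.conjNormal (H := T) g (MulAut.conjNormal (H := T) g⁻¹ x) = x
      rw [← MulAut.mul_apply, ← map_mul, mul_inv_cancel, map_one]
      rfl)
  -- the element `r g` fixes `a` and `t a`
  have hra : (r : G) • a = a := mem_stabT.1 hr
  obtain ⟨b, hb, hb'⟩ := h.out ((r : G) * g) fun h5 => hg (by simpa using T.mul_mem (T.inv_mem r.2) h5)
  have h5 : a = b := hb' a (show ((r : G) * g) • a = a by rw [mul_smul, hga, hra])
  have h6 : (t : G) • a = b := by
    apply hb'
    show ((r : G) * g) • (t : G) • a = (t : G) • a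
    have h7 := mem_stabT.1 h4
    have h8 : (((t⁻¹ * (r * (MulAut.conjNormal (H := T) g) t * r⁻¹) : T)) : G) =
        (t : G)⁻¹ * ((r : G) * g * (t : G)) * ((r : G) * g)⁻¹ := by
      simp only [coe_mul, coe_inv, MulAut.conjNormal_apply]
      group
    rw [h8, mul_smul, mul_smul, inv_smul_eq_iff, inv_smul_eq_iff.2 (show a = ((r : G) * g) • a by
      rw [mul_smul, hga, hra])] at h7
    rw [← mul_smul]
    exact h7
  exact ht (mem_stabT.2 (h6.trans h5.symm))

theorem isCoatom_stabT {a : Ω} (hG : T = ⊤) : IsCoatom (stabT T a) := by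
  have := h.prim
  have : Nontrivial Ω := by
    rw [← Finite.one_lt_card_iff_nontrivial]; exact h.two
  have h1 : IsCoatom (stabilizer G a) := IsPreprimitive.isCoatom_stabilizer_of_isPreprimitive G a
  subst hG
  exact Cfsg.Agent.H278.El.isCoatom_comap (Subgroup.topEquiv (G := G)) h1

end Sit

/-! ### The small socles -/

/-- a row for the groups with `|Out T|` a power of `2` -/
def RowTwo (T : Type*) [Group T] : Prop :=
  (∀ M : Subgroup T, IsCoatom M → TwoT T M) ∧ (∀ s : ℕ, s.Prime → s ∣ Nat.card (Cfsg.Out T) → s = 2) ∧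
    ∀ R : Subgroup T, R ≠ ⊤ → Odd R.index → TwoR T R ∨ OutBad T R

/-- the row for `PSL₃(4)` -/
def RowThree (T : Type*) [Group T] : Prop :=
  (∀ M : Subgroup T, IsCoatom M → TwoT T M) ∧ Nat.card (Cfsg.Out T) ∣ 12 ∧
    (∀ R : Subgroup T, R ≠ ⊤ → Odd R.index → TwoR T R ∨ OutBad T R) ∧
    ∀ R : Subgroup T, R ≠ ⊤ → R.index ≡ 1 [MOD 3] →
      TwoR T R ∨ ∃ x : T, (∀ g : T, g * x * g⁻¹ ∉ R) ∧ ∀ g : T, g * x * g⁻¹ ≠ x⁻¹

/-- the row for `A₅` -/
def RowFive (T : Type*) [Group T] : Prop :=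
  Nat.card T = 60 ∧ (∀ M : Subgroup T, IsCoatom M → TwoT T M ∨ M.index = 6) ∧
    (∀ s : ℕ, s.Prime → s ∣ Nat.card (Cfsg.Out T) → s = 2) ∧
    ∀ R : Subgroup T, R ≠ ⊤ → Odd R.index → TwoR T R ∨ OutBad T R

/-- the row for `PSL₂(8)` -/
def RowEight (T : Type*) [Group T] : Prop :=
  Nat.card T = 504 ∧ (∀ M : Subgroup T, IsCoatom M → TwoT T M) ∧ Nat.card (Cfsg.Out T) ∣ 3 ∧
    ∀ R : Subgroup T, R ≠ ⊤ → R.index ≡ 1 [MOD 3] → TwoR T R ∨ R.index = 28

namespace Sit

variable (h : Sit G Ω T)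

include h

theorem false_of_coatoms (hG : T = ⊤) (h1 : ∀ M : Subgroup T, IsCoatom M → TwoT T M) : False := by
  obtain ⟨a⟩ := h.nonempty
  exact h.false_of_twoT hG (h1 _ (h.isCoatom_stabT (a := a) hG))

theorem two_dvd (hG : T ≠ ⊤) (h2 : ∀ s : ℕ, s.Prime → s ∣ Nat.card (Cfsg.Out T) → s = 2) : 2 ∣ T.index := by
  have h4 : T.index ≠ 1 := fun h5 => hG (Subgroup.index_eq_one.1 h5)
  have h5 := h2 _ (Nat.minFac_prime h4) ((Nat.minFac_dvd _).trans h.index_dvd_out)
  rw [← h5]
  exact Nat.minFac_dvd _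

theorem odd_index {a : Ω} (h2 : 2 ∣ T.index) : Odd (stabT T a).index := by
  rw [← Nat.not_even_iff_odd, even_iff_two_dvd]
  exact h.not_dvd_index Nat.prime_two h2

theorem false_of_rowTwo (hr : RowTwo T) : False := by
  by_cases hG : T = ⊤
  · exact h.false_of_coatoms hG hr.1
  · obtain ⟨a⟩ := h.nonempty
    rcases hr.2.2 _ (h.stabT_ne_top a) (h.odd_index (h.two_dvd hG hr.2.1)) with h1 | h1
    · exact h.false_of_twoR h1
    · exact h.false_of_outBad hG h1

theorem false_of_rowThree (hr : RowThree T) : False := by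
  by_cases hG : T = ⊤
  · exact h.false_of_coatoms hG hr.1
  · obtain ⟨a⟩ := h.nonempty
    by_cases h2 : 2 ∣ T.index
    · rcases hr.2.2.1 _ (h.stabT_ne_top a) (h.odd_index h2) with h1 | h1
      · exact h.false_of_twoR h1
      · exact h.false_of_outBad hG h1
    · have h3 : T.index ∣ 3 := by
        have h4 := h.index_dvd_out.trans hr.2.1
        have h5 : Nat.Coprime T.index (2 ^ 2) :=
          (((Nat.Prime.coprime_iff_not_dvd Nat.prime_two).2 h2).symm).pow_right 2
        exact h5.dvd_of_dvd_mul_left (by norm_num; exact h4)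
      have h4 : T.index ≠ 1 := fun h5 => hG (Subgroup.index_eq_one.1 h5)
      have h5 : T.index = 3 := ((Nat.dvd_prime Nat.prime_three).1 h3).resolve_left h4
      rcases hr.2.2.2 _ (h.stabT_ne_top a) (h.index_mod Nat.prime_three (by rw [h5])) with h6 | ⟨x, h6, h7⟩
      · exact h.false_of_twoR h6
      · exact h.false_of_inv (by rw [h5]; decide) h6 h7

theorem of_rowFive (hr : RowFive T) : Nat.card Ω = 6 ∧ Nat.card G = 60 := by
  obtain ⟨a⟩ := h.nonempty
  by_cases hG : T = ⊤
  · rcases hr.2.1 _ (h.isCoatom_stabT (a := a) hG) with h1 | h1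
    · exact (h.false_of_twoT hG h1).elim
    · refine ⟨by rw [← h.index_stabT a, h1], ?_⟩
      rw [← hr.1, hG]
      exact (Nat.card_congr (Subgroup.topEquiv (G := G)).toEquiv).symm
  · rcases hr.2.2.2 _ (h.stabT_ne_top a) (h.odd_index (h.two_dvd hG hr.2.2.1)) with h1 | h1
    · exact (h.false_of_twoR h1).elim
    · exact (h.false_of_outBad hG h1).elim

theorem of_rowEight (hr : RowEight T) : Nat.card Ω = 28 ∧ Nat.card G = 1512 := by
  obtain ⟨a⟩ := h.nonempty
  by_cases hG : T = ⊤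
  · exact (h.false_of_coatoms hG hr.2.1).elim
  · have h4 : T.index ≠ 1 := fun h5 => hG (Subgroup.index_eq_one.1 h5)
    have h5 : T.index = 3 := ((Nat.dvd_prime Nat.prime_three).1 (h.index_dvd_out.trans hr.2.2.1)).resolve_left h4
    rcases hr.2.2.2 _ (h.stabT_ne_top a) (h.index_mod Nat.prime_three (by rw [h5])) with h1 | h1
    · exact (h.false_of_twoR h1).elim
    · refine ⟨by rw [← h.index_stabT a, h1], ?_⟩
      rw [← Subgroup.card_mul_index T, hr.1, h5]

end Sit

end sit

section congr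

variable {T S : Type*} [Group T] [Group S]

theorem map_comap_eq {K : Subgroup S} (e : T ≃* S) (φ : S ≃* S) (h : K.map φ.toMonoidHom = K) :
    (K.comap e.toMonoidHom).map (((e.trans φ).trans e.symm)).toMonoidHom = K.comap e.toMonoidHom := by
  ext x
  constructor
  · rintro ⟨y, hy, rfl⟩
    show e (e.symm (φ (e y))) ∈ K
    rw [MulEquiv.apply_symm_apply, ← h]
    exact ⟨e y, hy, rfl⟩
  · intro hx
    have hx' : e x ∈ K.map φ.toMonoidHom := by rw [h]; exact hx
    obtain ⟨y, hy, hxy⟩ := hx'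
    refine ⟨e.symm y, by simpa using hy, ?_⟩
    show e.symm (φ (e (e.symm y))) = x
    rw [MulEquiv.apply_symm_apply, MulEquiv.symm_apply_eq]
    exact hxy

theorem TwoR.congr {K : Subgroup S} (e : T ≃* S) (h : TwoR T (K.comap e.toMonoidHom)) : TwoR S K := by
  obtain ⟨x, y, hx, hy, hxy⟩ := h
  refine ⟨e x, e y, fun g hg => hx (e.symm g) ?_, fun g hg => hy (e.symm g) ?_, fun φ hφ g hg =>
    hxy ((e.trans φ).trans e.symm) (map_comap_eq e φ hφ) (e.symm g) ?_⟩
  · simpa using hg
  · simpa using hg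
  · apply e.injective
    simpa using hg

theorem OutBad.congr {K : Subgroup S} (e : T ≃* S) (h : OutBad T (K.comap e.toMonoidHom)) : OutBad S K := by
  intro φ hφ hK
  obtain ⟨r, hr, t, ht, h1⟩ := h ((e.trans φ).trans e.symm) (fun t h2 => hφ (e t) (by
      ext s
      have h3 := congrArg e (DFunLike.congr_fun h2 (e.symm s))
      simpa using h3)) (map_comap_eq e φ hK)
  exact ⟨e r, hr, e t, fun h2 => ht h2, by simpa using h1⟩

theorem comap_ne_top {K : Subgroup S} (e : T ≃* S) (h : K ≠ ⊤) : K.comap e.toMonoidHom ≠ ⊤ := by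
  intro h1
  apply h
  rw [eq_top_iff]
  intro x _
  have : e.symm x ∈ K.comap e.toMonoidHom := by rw [h1]; trivial
  simpa using this

theorem index_comap_eq {K : Subgroup S} (e : T ≃* S) : (K.comap e.toMonoidHom).index = K.index :=
  Subgroup.index_comap_of_surjective _ e.surjective

theorem RowTwo.congr (e : T ≃* S) (h : RowTwo T) : RowTwo S := by
  refine ⟨fun M hM => (h.1 _ (Cfsg.Agent.H278.El.isCoatom_comap e hM)).congr e, fun s hs hd => h.2.1 s hs
    (by rwa [card_out_congr e]), fun R hR hR' => ?_⟩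
  rcases h.2.2 _ (comap_ne_top e hR) (by rwa [index_comap_eq e]) with h1 | h1
  · exact Or.inl (h1.congr e)
  · exact Or.inr (h1.congr e)

theorem RowThree.congr (e : T ≃* S) (h : RowThree T) : RowThree S := by
  refine ⟨fun M hM => (h.1 _ (Cfsg.Agent.H278.El.isCoatom_comap e hM)).congr e, by rw [← card_out_congr e]; exact h.2.1,
    fun R hR hR' => ?_, fun R hR hR' => ?_⟩
  · rcases h.2.2.1 _ (comap_ne_top e hR) (by rwa [index_comap_eq e]) with h1 | h1
    · exact Or.inl (h1.congr e)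
    · exact Or.inr (h1.congr e)
  · rcases h.2.2.2 _ (comap_ne_top e hR) (by rwa [index_comap_eq e]) with h1 | ⟨x, h1, h2⟩
    · exact Or.inl (h1.congr e)
    · refine Or.inr ⟨e x, fun g hg => h1 (e.symm g) (by simpa using hg), fun g hg => h2 (e.symm g) ?_⟩
      apply e.injective
      simpa using hg

theorem RowFive.congr (e : T ≃* S) (h : RowFive T) : RowFive S := by
  refine ⟨by rw [← h.1]; exact (Nat.card_congr e.toEquiv).symm, fun M hM => ?_, fun s hs hd => h.2.2.1 s hs
    (by rwa [card_out_congr e]), fun R hR hR' => ?_⟩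
  · rcases h.2.1 _ (Cfsg.Agent.H278.El.isCoatom_comap e hM) with h1 | h1
    · exact Or.inl (h1.congr e)
    · exact Or.inr (by rwa [index_comap_eq e] at h1)
  · rcases h.2.2.2 _ (comap_ne_top e hR) (by rwa [index_comap_eq e]) with h1 | h1
    · exact Or.inl (h1.congr e)
    · exact Or.inr (h1.congr e)

theorem RowEight.congr (e : T ≃* S) (h : RowEight T) : RowEight S := by
  refine ⟨by rw [← h.1]; exact (Nat.card_congr e.toEquiv).symm, fun M hM =>
    (h.2.1 _ (Cfsg.Agent.H278.El.isCoatom_comap e hM)).congr e, by rw [← card_out_congr e]; exact h.2.2.1,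
    fun R hR hR' => ?_⟩
  rcases h.2.2.2 _ (comap_ne_top e hR) (by rwa [index_comap_eq e]) with h1 | h1
  · exact Or.inl (h1.congr e)
  · exact Or.inr (by rwa [index_comap_eq e] at h1)

end congr

/-- one of the rows -/
def Good (T : Type*) [Group T] : Prop := Row T ∨ RowTwo T ∨ RowThree T ∨ RowFive T ∨ RowEight T

/-- **Forward direction for almost simple groups.** -/
theorem Sit.final {G : Type*} [Group G] [Finite G] {Ω : Type*} [Finite Ω] [MulAction G Ω] {T : Subgroup G}
    (h : Sit G Ω T) (hg : Good T) :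
    (Nat.card Ω = 6 ∧ Nat.card G = 60) ∨ (Nat.card Ω = 28 ∧ Nat.card G = 1512) := by
  rcases hg with h1 | h1 | h1 | h1 | h1
  · exact (h.false_of_row h1).elim
  · exact (h.false_of_rowTwo h1).elim
  · exact (h.false_of_rowThree h1).elim
  · exact Or.inl (h.of_rowFive h1)
  · exact Or.inr (h.of_rowEight h1)

end Cfsg.Agent.H439.Der
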