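import Cfsg.Prelude.Def_Classification2
import Cfsg.Agent.S0252
import Cfsg.Agent.S0253
import Cfsg.Agent.S0254
import Cfsg.Agent.S0255
import Cfsg.Agent.S0256
import Cfsg.Agent.S0822

/-!
# Assembly of rows over the list of the known simple groups
-/

set_option autoImplicit false

namespace Cfsg.Agent.H439.Der.Asm

open Cfsg

universe u

/-- a predicate (in two universes) from its rows -/
theorem all_of (Pu : ∀ (T : Type u) [Group T], Prop) (P0 : ∀ (T : Type) [Group T], Prop)
    (congr : ∀ (T : Type) (S : Type u) [Group T] [Group S], (T ≃* S) → P0 T → Pu S)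
    (congr0 : ∀ (T S : Type) [Group T] [Group S], (T ≃* S) → P0 T → P0 S)
    (alt : ∀ n : ℕ, 5 ≤ n → P0 (alternatingGroup (Fin n)))
    (psl2 : ∀ (F : Type) [Field F] [Fintype F], 4 ≤ Fintype.card F → Fintype.card F ∉ ({4, 5, 9} : Finset ℕ) →
      P0 (Matrix.ProjectiveSpecialLinearGroup (Fin 2) F))
    (psl : ∀ (F : Type) [Field F] [Fintype F] (n : ℕ), 3 ≤ n →
      (n, Fintype.card F) ∉ ({(3, 2), (4, 2)} : Finset (ℕ × ℕ)) → P0 (Matrix.ProjectiveSpecialLinearGroup (Fin n) F))
    (psu3 : ∀ (F : Type) [Field F] [Fintype F] (q : ℕ), Fintype.card F = q ^ 2 → 3 ≤ q → P0 (PSU 3 F q))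
    (psu : ∀ (F : Type) [Field F] [Fintype F] (n q : ℕ), Fintype.card F = q ^ 2 → 4 ≤ n → 2 ≤ q → P0 (PSU n F q))
    (psp4 : ∀ (F : Type) [Field F] [Fintype F], 4 ≤ Fintype.card F → P0 (PSp 2 F))
    (psp : ∀ (F : Type) [Field F] [Fintype F] (m : ℕ), 3 ≤ m → P0 (PSp m F))
    (oodd : ∀ (F : Type) [Field F] [Fintype F] (m : ℕ), 3 ≤ m → Odd (Fintype.card F) → P0 (POmega F (quadFormOdd m F)))
    (oplus : ∀ (F : Type) [Field F] [Fintype F] (m : ℕ), 4 ≤ m → P0 (POmega F (quadFormPlus m F)))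
    (ominus : ∀ (F : Type) [Field F] [Fintype F] (m : ℕ) (a b : F), 4 ≤ m →
      (∀ z₁ z₂ : F, z₁ ^ 2 + a * z₁ * z₂ + b * z₂ ^ 2 = 0 → z₁ = 0 ∧ z₂ = 0) →
      P0 (POmega F (quadFormMinus (m - 1) F a b)))
    (exc : ∀ (T : Type u) [Group T] [Finite T], IsExceptionalLieType T → Pu T)
    (spor : ∀ (T : Type u) [Group T] [Finite T], IsSporadicGroup T → Pu T)
    (T : Type u) [Group T] [Finite T] (hna : ¬ IsMulCommutative T) (hk : IsKnownSimple' T) : Pu T := by
  rcases hk with h | ⟨n, hn, ⟨e⟩⟩ | ⟨F, iF, iT, n, hn, h4, ⟨e⟩⟩ | ⟨F, iF, iT, m, hm, h3, ⟨e⟩⟩ |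
    ⟨F, iF, iT, n, q, hF, hn, h2, ⟨e⟩⟩ | ⟨F, iF, iT, m, hm, ho, ⟨e⟩⟩ | ⟨F, iF, iT, m, hm, ⟨e⟩⟩ |
    ⟨F, iF, iT, m, a, b, hm, hab, ⟨e⟩⟩ | h | h
  · exfalso
    apply hna
    have := Fact.mk (show (Nat.card T).Prime from h)
    have hc := isCyclic_of_prime_card (α := T) rfl
    exact ⟨⟨fun a b => (IsCyclic.commGroup (α := T)).mul_comm a b⟩⟩
  · exact congr _ _ e.symm (alt n hn)
  · rcases Nat.lt_or_ge n 3 with hn3 | hn3
    · obtain rfl : n = 2 := by omega
      have h4' := h4 rfl
      by_cases h : Fintype.card F ∈ ({4, 5, 9} : Finset ℕ)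
      · simp only [Finset.mem_insert, Finset.mem_singleton] at h
        rcases h with h | h | h
        · obtain ⟨e1⟩ := S0252.result (F := F) h
          exact congr _ _ (e.trans e1).symm (alt 5 le_rfl)
        · obtain ⟨e1⟩ := S0253.result (F := F) h
          exact congr _ _ (e.trans e1).symm (alt 5 le_rfl)
        · obtain ⟨e1⟩ := S0254.result (F := F) h
          exact congr _ _ (e.trans e1).symm (alt 6 (by norm_num))
      · exact congr _ _ e.symm (psl2 F h4' h)
    · by_cases h : (n, Fintype.card F) ∈ ({(3, 2), (4, 2)} : Finset (ℕ × ℕ))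
      · simp only [Finset.mem_insert, Finset.mem_singleton, Prod.mk.injEq] at h
        rcases h with ⟨rfl, h⟩ | ⟨rfl, h⟩
        · have := Fact.mk (show Nat.Prime 7 by norm_num)
          obtain ⟨e1⟩ := S0255.result (F := ZMod 7) (K := F) (ZMod.card 7) h
          exact congr _ _ (e.trans e1.symm).symm (psl2 (ZMod 7) (by rw [ZMod.card]; norm_num) (by
            rw [ZMod.card]; decide))
        · obtain ⟨e1⟩ := S0256.result (F := F) h
          exact congr _ _ (e.trans e1).symm (alt 8 (by norm_num))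
      · exact congr _ _ e.symm (psl F n hn3 h)
  · rcases Nat.lt_or_ge m 3 with hm3 | hm3
    · obtain rfl : m = 2 := by omega
      rcases Nat.lt_or_ge (Fintype.card F) 4 with h | h
      · have h' : Fintype.card F = 3 := by have := h3 rfl; omega
        have := Fact.mk (show Nat.Prime 2 by norm_num)
        let K := GaloisField 2 2
        have : Fintype K := Fintype.ofFinite K
        have hK : Fintype.card K = 4 := by
          rw [← Nat.card_eq_fintype_card, GaloisField.card 2 2 (by norm_num)]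
          norm_num
        obtain ⟨e1⟩ := S0822.result (F := K) (K := F) hK h'
        exact congr _ _ (e.trans e1.symm).symm (psu K 4 2 (by rw [hK]; norm_num) le_rfl le_rfl)
      · exact congr _ _ e.symm (psp4 F h)
    · exact congr _ _ e.symm (psp F m hm3)
  · have hq : 2 ≤ q := by
      have h5 := Fintype.one_lt_card (α := F)
      rw [hF] at h5
      by_contra h6
      have h7 : q ≤ 1 := by omega
      have h8 : q ^ 2 ≤ 1 := by
        calc q ^ 2 ≤ 1 ^ 2 := Nat.pow_le_pow_left h7 2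
          _ = 1 := by norm_num
      omega
    rcases Nat.lt_or_ge n 4 with hn4 | hn4
    · obtain rfl : n = 3 := by omega
      exact congr _ _ e.symm (psu3 F q hF (by
        have : q ≠ 2 := fun h => h2 ⟨rfl, h⟩
        omega))
    · exact congr _ _ e.symm (psu F n q hF hn4 hq)
  · exact congr _ _ e.symm (oodd F m hm ho)
  · exact congr _ _ e.symm (oplus F m hm)
  · exact congr _ _ e.symm (ominus F m a b hm hab)
  · exact exc T h
  · exact spor T h

end Cfsg.Agent.H439.Der.Asm
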