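import Cfsg.Agent.H938.Sax.Base
import Cfsg.Prelude.Def_KGroupFacts

/-!
# One class of derangements (S3500): interface

* `Two T M`  : two elements of `T`, not `Aut T`-conjugate, without any `Aut T`-image in `M`
* `TwoT T M` : two elements of `T`, not `T`-conjugate, without any `T`-conjugate in `M`
* `NoSyl T M` : `M` contains no Sylow `s`-subgroup of `T` for any prime `s` dividing `|Out T|`
* `SC T v` : all elements of `T` whose order is divisible by `v` are `Aut T`-conjugate
* `Row T` : every maximal `M` satisfies `Two` or (`TwoT` and `NoSyl`)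
-/

set_option autoImplicit false

namespace Cfsg.Agent.H439.Der

open Subgroup Cfsg.Agent.H938.Sax

/-- two elements of `T`, not `Aut T`-conjugate, without any `Aut T`-image in `M` -/
def Two (T : Type*) [Group T] (M : Subgroup T) : Prop :=
  ∃ x y : T, (∀ φ : T ≃* T, φ x ∉ M) ∧ (∀ φ : T ≃* T, φ y ∉ M) ∧ ∀ φ : T ≃* T, φ x ≠ y

/-- two elements of `T`, not `T`-conjugate, without any `T`-conjugate in `M` -/
def TwoT (T : Type*) [Group T] (M : Subgroup T) : Prop :=
  ∃ x y : T, (∀ g : T, g * x * g⁻¹ ∉ M) ∧ (∀ g : T, g * y * g⁻¹ ∉ M) ∧ ∀ g : T, g * x * g⁻¹ ≠ y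

/-- `M` contains no Sylow `s`-subgroup of `T` for any prime `s` dividing `|Out T|` -/
def NoSyl (T : Type*) [Group T] (M : Subgroup T) : Prop :=
  ∀ s : ℕ, s.Prime → s ∣ Nat.card (Cfsg.Out T) → ¬ s ^ (Nat.card T).factorization s ∣ Nat.card M

/-- all elements whose order is divisible by `v` are `Aut T`-conjugate -/
def SC (T : Type*) [Group T] (v : ℕ) : Prop :=
  ∀ x y : T, v ∣ orderOf x → v ∣ orderOf y → ∃ φ : T ≃* T, φ x = y

/-- no prime divisor `v` of `|T|` is `SC` -/
def NSC (T : Type*) [Group T] : Prop := ∀ v : ℕ, v.Prime → v ∣ Nat.card T → ¬ SC T v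

/-- the row for `T` -/
def Row (T : Type*) [Group T] : Prop := ∀ M : Subgroup T, IsCoatom M → Two T M ∨ (TwoT T M ∧ NoSyl T M)

section mono

variable {T : Type*} [Group T] {K M : Subgroup T}

theorem Two.mono (h : Two T K) (hMK : M ≤ K) : Two T M := by
  obtain ⟨x, y, hx, hy, hxy⟩ := h
  exact ⟨x, y, fun φ hφ => hx φ (hMK hφ), fun φ hφ => hy φ (hMK hφ), hxy⟩

theorem TwoT.mono (h : TwoT T K) (hMK : M ≤ K) : TwoT T M := by
  obtain ⟨x, y, hx, hy, hxy⟩ := h
  exact ⟨x, y, fun φ hφ => hx φ (hMK hφ), fun φ hφ => hy φ (hMK hφ), hxy⟩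

theorem NoSyl.mono [Finite T] (h : NoSyl T K) (hMK : M ≤ K) : NoSyl T M :=
  fun s hs hd h1 => h s hs hd (h1.trans (Subgroup.card_dvd_of_le hMK))

theorem Two.twoT (h : Two T M) : TwoT T M := by
  obtain ⟨x, y, hx, hy, hxy⟩ := h
  refine ⟨x, y, fun g => ?_, fun g => ?_, fun g => ?_⟩
  · simpa using hx (MulAut.conj g)
  · simpa using hy (MulAut.conj g)
  · simpa using hxy (MulAut.conj g)

/-- two missing element orders -/
theorem Two.of_orders {a b : ℕ} (hab : a ≠ b) {x y : T} (hx : orderOf x = a) (hy : orderOf y = b)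
    (ha : ∀ m ∈ M, orderOf m ≠ a) (hb : ∀ m ∈ M, orderOf m ≠ b) : Two T M := by
  refine ⟨x, y, fun φ hφ => ha _ hφ ?_, fun φ hφ => hb _ hφ ?_, fun φ hφ => hab ?_⟩
  · rw [orderOf_mulEquiv, hx]
  · rw [orderOf_mulEquiv, hy]
  · rw [← hx, ← hy, ← hφ, orderOf_mulEquiv]

/-- elements whose order is divisible by a number not dividing `|M|` are missing -/
theorem not_mem_of_dvd {v : ℕ} (hv : ¬ v ∣ Nat.card M) {x : T} (hx : v ∣ orderOf x) (φ : T ≃* T) :
    φ x ∉ M := by
  intro h
  apply hv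
  have h1 : orderOf (⟨φ x, h⟩ : M) = orderOf x := by rw [← orderOf_mulEquiv φ x, ← Subgroup.orderOf_coe]
  exact (hx.trans (h1 ▸ dvd_rfl : orderOf x ∣ orderOf (⟨φ x, h⟩ : M))).trans (orderOf_dvd_natCard _)

/-- a missing number `v` with two non-conjugate elements of order divisible by `v` -/
theorem Two.of_not_dvd {v : ℕ} (hv : ¬ v ∣ Nat.card M) (h : ¬ SC T v) : Two T M := by
  unfold SC at h
  push Not at h
  obtain ⟨x, y, hx, hy, hxy⟩ := h
  exact ⟨x, y, not_mem_of_dvd hv hx, not_mem_of_dvd hv hy, hxy⟩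

/-- two missing primes -/
theorem Two.of_two_primes [Finite T] {v w : ℕ} (hv : v.Prime) (hw : w.Prime) (hvw : v ≠ w)
    (h1 : v ∣ Nat.card T) (h2 : w ∣ Nat.card T) (h3 : ¬ v ∣ Nat.card M) (h4 : ¬ w ∣ Nat.card M) : Two T M := by
  have := Fact.mk hv
  have := Fact.mk hw
  obtain ⟨x, hx⟩ := exists_prime_orderOf_dvd_card' v h1
  obtain ⟨y, hy⟩ := exists_prime_orderOf_dvd_card' w h2
  refine ⟨x, y, not_mem_of_dvd h3 (by rw [hx]), not_mem_of_dvd h4 (by rw [hy]), fun φ hφ => hvw ?_⟩
  rw [← hx, ← hy, ← hφ, orderOf_mulEquiv]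

theorem Two.of_pgap (h : NSC T) (hM : PGap T M) : Two T M := by
  obtain ⟨v, hv, h1, h2⟩ := hM
  exact Two.of_not_dvd h2 (h v hv h1)

end mono

section SC

variable {T : Type*} [Group T]

/-- under `SC` all the elements of order divisible by `v` have the same order -/
theorem SC.orderOf_eq {v : ℕ} (h : SC T v) {x y : T} (hx : v ∣ orderOf x) (hy : v ∣ orderOf y) :
    orderOf x = orderOf y := by
  obtain ⟨φ, rfl⟩ := h x y hx hy
  rw [orderOf_mulEquiv]

/-- an element of order divisible by `v` and different from `v` -/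
theorem not_SC_of_orderOf [Finite T] {v : ℕ} (hv : v.Prime) {y : T} (hy : v ∣ orderOf y) (hne : orderOf y ≠ v) :
    ¬ SC T v := by
  intro h
  have := Fact.mk hv
  obtain ⟨x, hx⟩ := exists_prime_orderOf_dvd_card' v (hy.trans (orderOf_dvd_natCard y))
  exact hne ((h.orderOf_eq hy (by rw [hx])).trans hx)

theorem not_SC_of_two_orders {v : ℕ} {x y : T} (hx : v ∣ orderOf x) (hy : v ∣ orderOf y)
    (hne : orderOf x ≠ orderOf y) : ¬ SC T v := fun h => hne (h.orderOf_eq hx hy)

/-- an element of order divisible by `v` commuting with an element of another prime order -/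
theorem not_SC_of_commute [Finite T] {v w : ℕ} (hv : v.Prime) (hw : w.Prime) (hvw : v ≠ w) {x y : T}
    (hx : orderOf x = v) (hy : orderOf y = w) (hc : Commute x y) : ¬ SC T v := by
  have h1 : orderOf (x * y) = v * w := by
    rw [hc.orderOf_mul_eq_mul_orderOf_of_coprime (by rw [hx, hy]; exact (Nat.coprime_primes hv hw).2 hvw), hx, hy]
  refine not_SC_of_orderOf hv (y := x * y) (by rw [h1]; exact dvd_mul_right _ _) ?_
  rw [h1]
  intro h2
  have := hw.one_lt
  have := hv.pos
  nlinarith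

theorem SC.congr {S : Type*} [Group S] (e : T ≃* S) {v : ℕ} (h : SC T v) : SC S v := by
  intro x y hx hy
  have h1 : ∀ z : S, orderOf (e.symm z) = orderOf z := fun z =>
    orderOf_injective e.symm.toMonoidHom e.symm.injective z
  obtain ⟨φ, hφ⟩ := h (e.symm x) (e.symm y) (by rwa [h1]) (by rwa [h1])
  refine ⟨(e.symm.trans φ).trans e, ?_⟩
  simp [hφ]

theorem NSC.congr {S : Type*} [Group S] (e : T ≃* S) (h : NSC T) : NSC S := fun v hv hd hs =>
  h v hv (by rwa [Nat.card_congr e.toEquiv]) (hs.congr e.symm)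

end SC

section congr

variable {T S : Type*} [Group T] [Group S]

theorem Two.congr {K : Subgroup S} (e : T ≃* S) (h : Two T (K.comap e.toMonoidHom)) : Two S K := by
  obtain ⟨x, y, hx, hy, hxy⟩ := h
  refine ⟨e x, e y, fun φ hφ => hx ((e.trans φ).trans e.symm) ?_, fun φ hφ => hy ((e.trans φ).trans e.symm) ?_,
    fun φ hφ => hxy ((e.trans φ).trans e.symm) ?_⟩
  · simpa using hφ
  · simpa using hφ
  · simp [hφ]

theorem TwoT.congr {K : Subgroup S} (e : T ≃* S) (h : TwoT T (K.comap e.toMonoidHom)) : TwoT S K := by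
  obtain ⟨x, y, hx, hy, hxy⟩ := h
  refine ⟨e x, e y, fun g hg => hx (e.symm g) ?_, fun g hg => hy (e.symm g) ?_, fun g hg => hxy (e.symm g) ?_⟩
  · simpa using hg
  · simpa using hg
  · apply e.injective
    simpa using hg

theorem card_out_congr (e : T ≃* S) : Nat.card (Cfsg.Out T) = Nat.card (Cfsg.Out S) := by
  let f : MulAut T ≃* MulAut S := MulAut.congr e
  have h1 : ∀ g : T, f (MulAut.conj g) = MulAut.conj (e g) := by
    intro g
    ext x
    simp [f, MulAut.congr]
  have h2 : (Cfsg.Inn T).map f.toMonoidHom = Cfsg.Inn S := by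
    ext x
    constructor
    · rintro ⟨_, ⟨g, rfl⟩, rfl⟩
      exact ⟨e g, (h1 g).symm⟩
    · rintro ⟨g, rfl⟩
      exact ⟨MulAut.conj (e.symm g), ⟨e.symm g, rfl⟩, by
        show f (MulAut.conj (e.symm g)) = _
        rw [h1, MulEquiv.apply_symm_apply]⟩
  exact Nat.card_congr (QuotientGroup.congr _ _ f h2).toEquiv

theorem NoSyl.congr {K : Subgroup S} (e : T ≃* S) (h : NoSyl T (K.comap e.toMonoidHom)) : NoSyl S K := by
  intro s hs hd h1
  refine h s hs (by rwa [card_out_congr e]) ?_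
  rwa [card_comap, Nat.card_congr e.toEquiv]

theorem Row.congr (e : T ≃* S) (h : Row T) : Row S := by
  intro M hM
  rcases h _ (Cfsg.Agent.H278.El.isCoatom_comap e hM) with h1 | ⟨h1, h2⟩
  · exact Or.inl (h1.congr e)
  · exact Or.inr ⟨h1.congr e, h2.congr e⟩

/-- the row from the `PGap` statement and `NSC` -/
theorem Row.of_pgap (h : NSC T) (hM : ∀ M : Subgroup T, IsCoatom M → PGap T M) [Finite T] : Row T :=
  fun M hM' => Or.inl (Two.of_pgap h (hM M hM'))

end congr

end Cfsg.Agent.H439.Der
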