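import Cfsg.Agent.H439.Der.ReduceThree
import Cfsg.Agent.H439.Der.Asm

/-!
# S3500 and S3502 from the rows
-/

set_option autoImplicit false

namespace Cfsg.Agent.H439.Der

open Subgroup MulAction Cfsg

universe u v

theorem Good.congr {T S : Type*} [Group T] [Group S] (e : T ≃* S) (h : Good T) : Good S := by
  rcases h with h | h | h | h | h
  · exact Or.inl (h.congr e)
  · exact Or.inr (Or.inl (h.congr e))
  · exact Or.inr (Or.inr (Or.inl (h.congr e)))
  · exact Or.inr (Or.inr (Or.inr (Or.inl (h.congr e))))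
  · exact Or.inr (Or.inr (Or.inr (Or.inr (h.congr e))))

/-- one of the rows of S3502 -/
def Good3 (T : Type*) [Group T] : Prop := RowW T ∨ RowA T

theorem Good3.congr {T S : Type*} [Group T] [Group S] (e : T ≃* S) (h : Good3 T) : Good3 S := by
  rcases h with h | h
  · exact Or.inl (h.congr e)
  · exact Or.inr (h.congr e)

/-- every finite group has a copy in `Type` -/
theorem exists_copy (T : Type u) [Group T] [Finite T] : ∃ (S : Type) (_ : Group S) (_ : Finite S), Nonempty (T ≃* S) := by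
  obtain ⟨n, ⟨e⟩⟩ := Finite.exists_equiv_fin T
  let e' : {x : Fin n // True} ≃ T := (Equiv.subtypeUnivEquiv fun _ => trivial).trans e.symm
  let iG : Group {x : Fin n // True} := e'.group
  exact ⟨{x : Fin n // True}, iG, inferInstance, ⟨(Equiv.mulEquiv e').symm⟩⟩

theorem all_of_zero (P0 : ∀ (T : Type) [Group T], Prop) (Pu : ∀ (T : Type u) [Group T], Prop)
    (congr : ∀ (T : Type) (S : Type u) [Group T] [Group S], (T ≃* S) → P0 T → Pu S)
    (h : ∀ (T : Type) [Group T] [Finite T] [IsSimpleGroup T], ¬ IsMulCommutative T → P0 T)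
    (T : Type u) [Group T] [Finite T] [IsSimpleGroup T] (hna : ¬ IsMulCommutative T) : Pu T := by
  obtain ⟨S, iG, iF, ⟨e⟩⟩ := exists_copy T
  have hs : IsSimpleGroup S := (MulEquiv.isSimpleGroup_congr e).1 inferInstance
  refine congr S T e.symm (h S fun hc => hna ⟨⟨fun a b => e.injective ?_⟩⟩)
  rw [map_mul, map_mul]
  exact hc.is_comm.comm _ _

/-- **S3500** from the rows and the converse. -/
theorem s3500 (hgood : ∀ (T : Type) [Group T] [Finite T] [IsSimpleGroup T], ¬ IsMulCommutative T → Good T)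
    {G : Type u} [Group G] [Finite G] {Ω : Type v} [Fintype Ω] [MulAction G Ω] [FaithfulSMul G Ω]
    (conv : ((Fintype.card Ω = 6 ∧ Nat.card G = 60) ∨ (Fintype.card Ω = 28 ∧ Nat.card G = 1512)) →
      (∃ x : G, ∀ ω : Ω, x • ω ≠ ω) ∧ ∀ x y : G, (∀ ω : Ω, x • ω ≠ ω) → (∀ ω : Ω, y • ω ≠ ω) → ∃ g : G, g * x * g⁻¹ = y)
    (hΩ : 2 ≤ Fintype.card Ω) (hprim : MulAction.IsPreprimitive G Ω) :
    Nat.card {c : ConjClasses G // ∃ g : G, ConjClasses.mk g = c ∧ ∀ ω : Ω, g • ω ≠ ω} = 1 ↔
    ((MulAction.IsMultiplyPretransitive G Ω 2 ∧ ∀ g : G, g ≠ 1 → ∀ a b : Ω, a ≠ b → g • a = a → g • b ≠ b) ∨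
      (Fintype.card Ω = 6 ∧ Nat.card G = 60) ∨ (Fintype.card Ω = 28 ∧ Nat.card G = 1512)) := by
  have hnt : Nontrivial Ω := by
    rw [← Fintype.one_lt_card_iff_nontrivial]; omega
  constructor
  · intro h1
    by_cases hnas : ∃ T : Subgroup G, T.Normal ∧ IsSimpleGroup T ∧ ¬ IsMulCommutative T ∧ Subgroup.centralizer (T : Set G) = ⊥
    · right
      obtain ⟨T, hT, hs, hna, hc⟩ := hnas
      rw [S3501.card_classes_iff (fun g : G => ∀ ω : Ω, g • ω ≠ ω) (fun g x hx => S3501.der_conj g hx)] at h1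
      have h2 := sit_of (G := G) (Ω := Ω) (by rw [Nat.card_eq_fintype_card]; exact hΩ) hprim hT hs hna hc h1.2
      have h3 : Good T := all_of_zero (fun T _ => Good T) (fun T _ => Good T) (fun T S _ _ e h => h.congr e)
        (fun T _ _ _ h => hgood T h) T hna
      have h4 := h2.final h3
      rwa [Nat.card_eq_fintype_card] at h4
    · exact Or.inl ((S3501.result hΩ hprim hnas).1 h1)
  · intro h
    rw [S3501.card_classes_iff (fun g : G => ∀ ω : Ω, g • ω ≠ ω) (fun g x hx => S3501.der_conj g hx)]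
    rcases h with ⟨h1, h2⟩ | h
    · rw [MulAction.is_two_pretransitive_iff] at h1
      obtain ⟨N, hNn, hN, hcom, htr, hcard, hconj⟩ :=
        Cfsg.Agent.PermutationGroups.SharplyTwoTransitive.exists_regular_normal (G := G) (α := Ω)
          (fun a b c d hab hcd => h1 hab hcd)
          (fun g a b hab hga hgb => by
            by_contra hg
            exact h2 g hg a b hab hga hgb)
      constructor
      · obtain ⟨x, -, hx⟩ := S3501.exists_der_of_trans (G := G) (Ω := Ω) hΩ ⊤ (fun a b => by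
          obtain ⟨g, hg⟩ := hprim.exists_smul_eq a b
          exact ⟨g, Subgroup.mem_top g, hg⟩)
        exact ⟨x, hx⟩
      · intro x y hx hy
        have hne : ∀ z : G, (∀ a : Ω, z • a ≠ a) → z ≠ 1 := by
          rintro z hz rfl
          obtain ⟨a, -, -⟩ := exists_pair_ne Ω
          exact hz a (one_smul G a)
        exact hconj x ((hN x).2 (Or.inr hx)) y ((hN y).2 (Or.inr hy)) (hne x hx) (hne y hy)
    · exact conv h

/-- **S3502** from the rows. -/
theorem s3502 (hgood : ∀ (T : Type) [Group T] [Finite T] [IsSimpleGroup T], ¬ IsMulCommutative T → Good3 T)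
    {G : Type u} [Group G] [Finite G] {Ω : Type v} [Fintype Ω] [MulAction G Ω] [hf : FaithfulSMul G Ω]
    (hAS : ∃ T : Subgroup G, T.Normal ∧ IsSimpleGroup T ∧ ¬ IsMulCommutative T ∧ Subgroup.centralizer (T : Set G) = ⊥)
    (htr : MulAction.IsPretransitive G Ω) (hnp : ¬ MulAction.IsPreprimitive G Ω) :
    3 ≤ Nat.card {c : ConjClasses G // ∃ g : G, ConjClasses.mk g = c ∧ ∀ ω : Ω, g • ω ≠ ω} ∨
      (Nat.card {c : ConjClasses G // ∃ g : G, ConjClasses.mk g = c ∧ ∀ ω : Ω, g • ω ≠ ω} = 2 ∧ Nat.card G = 60 ∧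
        Fintype.card Ω = 12) := by
  obtain ⟨T, hT, hs, hna, hc⟩ := hAS
  have hnt : Nontrivial Ω := by
    by_contra hn
    rw [not_nontrivial_iff_subsingleton] at hn
    exact hnp ⟨fun {B} _ => Or.inl (Set.subsingleton_of_subsingleton)⟩
  have h1 : Sit3 G Ω T := ⟨hT, hs, hna, hc, hf, htr, by
    rw [Nat.card_eq_fintype_card]
    exact Fintype.one_lt_card, fun a h => hnp ((isCoatom_stabilizer_iff_preprimitive G a).1 h)⟩
  have h3 : Good3 T := all_of_zero (fun T _ => Good3 T) (fun T _ => Good3 T) (fun T S _ _ e h => h.congr e)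
    (fun T _ _ _ h => hgood T h) T hna
  have h4 := h1.final h3
  rwa [Nat.card_eq_fintype_card (α := Ω)] at h4

end Cfsg.Agent.H439.Der
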