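import Cfsg.Agent.H439.Der.Final
import Cfsg.Agent.H257.El.Eng
import Cfsg.Agent.H546.Der.AltSeven
import Cfsg.Agent.H853.Der.AFive
import Cfsg.Agent.H853.Der.ASixC
import Cfsg.Agent.H410.Three.Psl2
import Cfsg.Agent.H681.Der.Psl7
import Cfsg.Agent.H681.Der.Psl8
import Cfsg.Agent.H205.Der.RowS
import Cfsg.Agent.H587.Der34.Psl34
import Cfsg.Agent.H188.Der.U33B
import Cfsg.Agent.H188.Der.U34
import Cfsg.Agent.H188.Der.U35
import Cfsg.Agent.H188.Der.U38
import Cfsg.Agent.H372.DerU.Ntc3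
import Cfsg.Agent.H372.DerU.Fin
import Cfsg.Agent.H44.Der.U42c
import Cfsg.Agent.H44.Der.U43Res
import Cfsg.Agent.H251.Der.U52Row
import Cfsg.Agent.H251.Der.U62Strong
import Cfsg.Agent.H580.Der.Sp4
import Cfsg.Agent.H916.Der.SixRow
import Cfsg.Agent.H901.Der.SpFin
import Cfsg.Agent.H833.RS.Main
import Cfsg.Agent.H320.Der.FourN
import Cfsg.Agent.H320.Der.Even
import Cfsg.Agent.H385.Otp.Row
import Cfsg.Agent.H188.Der.O8m
import Cfsg.Agent.H788.Der.OmMinus
import Cfsg.Agent.H788.Der.TenFin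
import Cfsg.Agent.H916.Der.FourW
import Cfsg.Agent.H547.Der.OctRow

/-!
# S3502: all the rows (classical and alternating groups)
-/

set_option autoImplicit false

namespace Cfsg.Agent.H439.Der.Good3All

open Cfsg Cfsg.Agent.OrdDiv Cfsg.Agent.H257.El

theorem good_S {T : Type*} [Group T] (h : RowS T) : Good3 T := Or.inl h.rowW

theorem good_alt (n : ℕ) (hn : 5 ≤ n) : Good3 (alternatingGroup (Fin n)) := by
  rcases (by omega : n = 5 ∨ n = 6 ∨ 7 ≤ n) with rfl | rfl | h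
  · exact Or.inr H853.Der.rowA_a5
  · exact Or.inl H853.Der.rowW_a6
  · exact good_S (H546.Der.rowS_alt h)

variable (F : Type) [Field F] [Fintype F]

theorem good_psl2 (h4 : 4 ≤ Fintype.card F) (h : Fintype.card F ∉ ({4, 5, 9} : Finset ℕ)) :
    Good3 (Matrix.ProjectiveSpecialLinearGroup (Fin 2) F) := by
  simp only [Finset.mem_insert, Finset.mem_singleton, not_or] at h
  by_cases h7 : Fintype.card F = 7
  · exact Or.inl (H681.Der.Psl7.rowW_psl27 h7)
  by_cases h8 : Fintype.card F = 8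
  · exact Or.inl (H681.Der.Psl8.rowW_psl28 h8)
  · refine good_S (H410.Three.Psl2.rowS_psl2 h4 ?_)
    simp only [Finset.mem_insert, Finset.mem_singleton, not_or]
    exact ⟨h.1, h.2.1, h7, h8, h.2.2⟩

theorem good_psl (tab : OrderTable.{0}) (hK : Known.{0}) (n : ℕ) (hn : 3 ≤ n)
    (h : (n, Fintype.card F) ∉ ({(3, 2), (4, 2)} : Finset (ℕ × ℕ))) :
    Good3 (Matrix.ProjectiveSpecialLinearGroup (Fin n) F) := by
  simp only [Finset.mem_insert, Finset.mem_singleton, Prod.mk.injEq, not_or] at h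
  by_cases h34 : n = 3 ∧ Fintype.card F = 4
  · obtain ⟨rfl, hF⟩ := h34
    exact Or.inl (H587.Der34.rowW_psl34 hF)
  · refine good_S (H205.DerPsl.rowS_psl tab hK hn ?_)
    simp only [Finset.mem_insert, Finset.mem_singleton, Prod.mk.injEq, not_or]
    exact ⟨h.1, h34, h.2⟩

theorem good_psu3 (q : ℕ) (hF : Fintype.card F = q ^ 2) (hq : 3 ≤ q) : Good3 (PSU 3 F q) := by
  by_cases h : q ∈ ({3, 4, 5, 8} : Finset ℕ)
  · simp only [Finset.mem_insert, Finset.mem_singleton] at h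
    rcases h with rfl | rfl | rfl | rfl
    · exact good_S (H188.Der.rowS_u33 hF)
    · exact good_S (H188.Der.rowS_u34 hF)
    · exact good_S (H188.Der.rowS_u35 hF)
    · exact good_S (H188.Der.rowS_u38 hF)
  · exact good_S (H372.DerU.rowS_psu3 hF hq h)

theorem good_psu (tab : OrderTable.{0}) (hK : Known.{0}) (n q : ℕ) (hF : Fintype.card F = q ^ 2) (hn : 4 ≤ n) (hq : 2 ≤ q) :
    Good3 (PSU n F q) := by
  by_cases h : (n, q) ∈ ({(4, 2), (4, 3), (5, 2), (6, 2)} : Finset (ℕ × ℕ))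
  · simp only [Finset.mem_insert, Finset.mem_singleton, Prod.mk.injEq] at h
    rcases h with ⟨rfl, rfl⟩ | ⟨rfl, rfl⟩ | ⟨rfl, rfl⟩ | ⟨rfl, rfl⟩
    · exact good_S (H44.Der.U42.rowS_u42 tab hK hF)
    · exact good_S (H44.Der.U43.rowS_u43_full tab hK hF)
    · exact good_S (H251.Der.rowS_u52 tab hK hF)
    · exact good_S (H251.Der.rowS_u62 tab hK hF)
  · exact good_S (H372.DerU.rowS_psu tab hK hF hn h)

theorem good_psp4 (tab : OrderTable.{0}) (hK : Known.{0}) (h4 : 4 ≤ Fintype.card F) : Good3 (PSp 2 F) := by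
  by_cases h : Fintype.card F = 4
  · exact Or.inl (H916.Der.Four.rowW_s44 tab hK F h)
  · exact good_S (H580.Der.Sp4.rowS_psp4 (by omega))

theorem good_psp (tab : OrderTable.{0}) (hK : Known.{0}) (m : ℕ) (hm : 3 ≤ m) : Good3 (PSp m F) := by
  by_cases h : m = 3 ∧ Fintype.card F = 2
  · obtain ⟨rfl, hF⟩ := h
    exact good_S (H916.Der.Six.rowS_s62 tab hK F hF)
  · exact good_S (H901.Der.rowS_psp hm h)

theorem good_oodd (tab : OrderTable.{0}) (hK : Known.{0}) (m : ℕ) (hm : 3 ≤ m) (ho : Odd (Fintype.card F)) :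
    Good3 (POmega F (quadFormOdd m F)) := good_S (H833.RS.rowS_oodd tab hK hm ho)

theorem good_oplus (tab : OrderTable.{0}) (hK : Known.{0}) (m : ℕ) (hm : 4 ≤ m) :
    Good3 (POmega F (quadFormPlus m F)) := by
  rcases Nat.lt_or_ge m 5 with h | h
  · obtain rfl : m = 4 := by omega
    have h1 := Fintype.one_lt_card (α := F)
    rcases (by omega : Fintype.card F = 2 ∨ Fintype.card F = 3 ∨ 4 ≤ Fintype.card F) with h2 | h3 | h4
    · exact Or.inl (H547.Der.Eight.rowW_o8p2 tab hK F h2)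
    · exact Or.inl (H385.Otp.rowW_o83 tab hK F h3)
    · exact good_S (H320.Der.rowS_oplus_four tab hK (by rw [Nat.card_eq_fintype_card]; exact h4))
  · exact good_S (H320.Der.rowS_oplus_five tab hK h)

theorem good_ominus (tab : OrderTable.{0}) (hK : Known.{0}) (m : ℕ) (a b : F) (hm : 4 ≤ m)
    (hab : ∀ z₁ z₂ : F, z₁ ^ 2 + a * z₁ * z₂ + b * z₂ ^ 2 = 0 → z₁ = 0 ∧ z₂ = 0) :
    Good3 (POmega F (quadFormMinus (m - 1) F a b)) := by
  by_cases h42 : m = 4 ∧ Nat.card F = 2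
  · obtain ⟨rfl, h2⟩ := h42
    rw [Nat.card_eq_fintype_card] at h2
    exact good_S (H188.Der.O8m.rowS_o8m2 tab hK h2 hab)
  by_cases h52 : m = 5 ∧ Nat.card F = 2
  · obtain ⟨rfl, h2⟩ := h52
    rw [Nat.card_eq_fintype_card] at h2
    exact good_S (H788.Der.rowS_o10m2 tab hK h2 hab)
  by_cases h43 : m = 4 ∧ Nat.card F = 3
  · obtain ⟨rfl, h3⟩ := h43
    rw [Nat.card_eq_fintype_card] at h3
    exact good_S (H788.Der.rowS_o8m3 tab hK h3 hab)
  exact good_S (H320.Der.rowS_ominus_gen tab hK hm hab h42 h52 h43)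

end Cfsg.Agent.H439.Der.Good3All
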