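import Cfsg.Agent.H439.Der.Final
import Cfsg.Agent.H123.Der.ThreeRows
import Cfsg.Agent.H51.Der.Spor
import Cfsg.Agent.H348.Der.Rows
import Cfsg.Agent.H348.Der.RowsB
import Cfsg.Agent.H149.Der.CoOneS
import Cfsg.Agent.H149.Der.CoTwoS
import Cfsg.Agent.H149.Der.CoThreeS
import Cfsg.Agent.H870.Der.FiTwoE
import Cfsg.Agent.H870.Der.FiTwoThree
import Cfsg.Agent.H870.Der.FiTF
import Cfsg.Agent.H966.Der.McLS
import Cfsg.Agent.H966.Der.HNS
import Cfsg.Agent.H602.Der.HSThree
import Cfsg.Agent.H257.El.Der.Ly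
import Cfsg.Agent.H257.El.Der.Th
import Cfsg.Agent.H257.El.Der.B
import Cfsg.Agent.H257.El.Der.M

/-!
# S3502: the rows of the sporadic groups
-/

set_option autoImplicit false

namespace Cfsg.Agent.H439.Der.Good3All

open Cfsg Cfsg.Agent.OrdDiv Cfsg.Agent.H257.El

theorem good_spor (tab : OrderTable.{0}) (hk : Known.{0}) (T : Type) [Group T] [Finite T] (h : IsSporadicGroup T) :
    Good3 T := by
  refine Or.inl ?_
  rcases h with h | h | h | h | h | h | h | h | h | h | h | h | h | h | h | h | h | h | h | h | h | h | h | h | h | h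
  · exact (H123.Der.rowS_m11 h).rowW
  · exact (H123.Der.rowS_m12 h).rowW
  · exact (H123.Der.rowS_m22 h).rowW
  · exact (H123.Der.rowS_m23 h).rowW
  · exact (H123.Der.rowS_m24 h).rowW
  · exact (H123.Der.rowS_j1 h).rowW
  · exact (H51.Der.rowS_j2 h).rowW
  · exact (H348.Der.rowS_j3 h).rowW
  · exact (H348.Der.rowS_j4 h).rowW
  · exact (H149.Der.rowS_co1 tab hk h).rowW
  · exact (H149.Der.rowS_co2 tab hk h).rowW
  · exact (H149.Der.rowS_co3 tab hk h).rowW
  · exact (H966.Der.McL.rowS_of tab hk h).rowW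
  · exact (H602.Der.HS.rowS_of tab hk h).rowW
  · exact (H348.Der.rowS_suz h).rowW
  · exact (H348.Der.rowS_he h).rowW
  · exact (H348.Der.rowS_ru h).rowW
  · exact (H348.Der.rowS_on h).rowW
  · exact (H257.El.Der.rowS_ly tab hk h).rowW
  · exact (H870.Der.FiTwo.rowS_fi22 tab hk h).rowW
  · exact (H870.Der.FiTT.rowS_fi23 tab hk h).rowW
  · exact (H870.Der.FiTF.rowS_fi24p tab hk h).rowW
  · exact (H966.Der.HN.rowS_of tab hk h).rowW
  · exact (H257.El.Der.rowS_th tab hk h).rowW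
  · exact (H257.El.Der.rowS_b tab hk h).rowW
  · exact (H257.El.Der.rowS_m tab hk h).rowW

end Cfsg.Agent.H439.Der.Good3All
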