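import Cfsg.Agent.H439.Der.Final
import Cfsg.Agent.H548.DerAlt
import Cfsg.Agent.H35.DerSmall.Five
import Cfsg.Agent.H35.DerSmall.Six
import Cfsg.Agent.H35.DerSmall.Seven
import Cfsg.Agent.H35.DerSmall.Eight
import Cfsg.Agent.H383.Der.Psl2
import Cfsg.Agent.H39.Der.RowPsl
import Cfsg.Agent.H97.Der.L34
import Cfsg.Agent.H410.DerPsuB
import Cfsg.Agent.H322.Der.UThree
import Cfsg.Agent.H219.RowPsuFin
import Cfsg.Agent.H251.Der.U42
import Cfsg.Agent.H251.Der.U43
import Cfsg.Agent.H251.Der.U52Row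
import Cfsg.Agent.H251.Der.U62Row
import Cfsg.Agent.H896.Der4.Main
import Cfsg.Agent.H547.Der.FourRow
import Cfsg.Agent.H547.Der.SixRow
import Cfsg.Agent.H547.Der.OctK
import Cfsg.Agent.H388.Der.RowPSp
import Cfsg.Agent.H265.Der.Row
import Cfsg.Agent.H964.Opm.RowMinus
import Cfsg.Agent.H964.Opm.RowPlus

/-!
# S3500: all the rows (classical and alternating groups)
-/

set_option autoImplicit false

namespace Cfsg.Agent.H439.Der.GoodAll

open Cfsg Cfsg.Agent.OrdDiv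

/-- the classification -/
abbrev Kn : Prop := ∀ (X : Type) [Group X] [Finite X] [IsSimpleGroup X], Cfsg.IsKnownSimple' X

theorem good_alt (n : ℕ) (hn : 5 ≤ n) : Good (alternatingGroup (Fin n)) := by
  rcases (by omega : n = 5 ∨ n = 6 ∨ 7 ≤ n) with rfl | rfl | h
  · exact Or.inr (Or.inr (Or.inr (Or.inl H35.DerSmall.rowFive_a5)))
  · exact Or.inr (Or.inl H35.DerSmall.rowTwo_a6)
  · exact Or.inl (H548.DerAlt.row_alt h)

variable (F : Type) [Field F] [Fintype F]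

theorem good_psl2 (h4 : 4 ≤ Fintype.card F) (h : Fintype.card F ∉ ({4, 5, 9} : Finset ℕ)) :
    Good (Matrix.ProjectiveSpecialLinearGroup (Fin 2) F) := by
  simp only [Finset.mem_insert, Finset.mem_singleton, not_or] at h
  by_cases h7 : Fintype.card F = 7
  · exact Or.inr (Or.inl (H35.DerSmall.rowTwo_psl27 h7))
  by_cases h8 : Fintype.card F = 8
  · exact Or.inr (Or.inr (Or.inr (Or.inr (H35.DerSmall.rowEight_psl28 h8))))
  · refine Or.inl (H383.Der.Psl2.row_psl2 h4 ?_)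
    simp only [Finset.mem_insert, Finset.mem_singleton, not_or]
    exact ⟨h.1, h.2.1, h7, h8, h.2.2⟩

theorem good_psl (tab : OrderTable.{0}) (hK : Kn) (n : ℕ) (hn : 3 ≤ n)
    (h : (n, Fintype.card F) ∉ ({(3, 2), (4, 2)} : Finset (ℕ × ℕ))) :
    Good (Matrix.ProjectiveSpecialLinearGroup (Fin n) F) := by
  simp only [Finset.mem_insert, Finset.mem_singleton, Prod.mk.injEq, not_or] at h
  by_cases h34 : n = 3 ∧ Fintype.card F = 4
  · obtain ⟨rfl, hF⟩ := h34
    exact Or.inr (Or.inr (Or.inl (H97.Der.rowThree_psl34 hF)))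
  · refine Or.inl (H39.DerPsl.row_psl tab hK hn ?_)
    simp only [Finset.mem_insert, Finset.mem_singleton, Prod.mk.injEq, not_or]
    exact ⟨h.1, h34, h.2⟩

theorem good_psu3 (q : ℕ) (hF : Fintype.card F = q ^ 2) (hq : 3 ≤ q) : Good (PSU 3 F q) := by
  by_cases h : q ∈ ({3, 4, 5, 8} : Finset ℕ)
  · simp only [Finset.mem_insert, Finset.mem_singleton] at h
    rcases h with rfl | rfl | rfl | rfl
    · exact Or.inl (H322.Der.row_u33 hF)
    · exact Or.inl (H322.Der.row_u34 hF)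
    · exact Or.inl (H322.Der.row_u35 hF)
    · exact Or.inl (H322.Der.row_u38 hF)
  · exact Or.inl (H410.DerPsu.row_psu3 hF hq h)

theorem good_psu (tab : OrderTable.{0}) (hK : Kn) (n q : ℕ) (hF : Fintype.card F = q ^ 2) (hn : 4 ≤ n) (hq : 2 ≤ q) :
    Good (PSU n F q) := by
  by_cases h : (n, q) ∈ ({(4, 2), (4, 3), (5, 2), (6, 2)} : Finset (ℕ × ℕ))
  · simp only [Finset.mem_insert, Finset.mem_singleton, Prod.mk.injEq] at h
    rcases h with ⟨rfl, rfl⟩ | ⟨rfl, rfl⟩ | ⟨rfl, rfl⟩ | ⟨rfl, rfl⟩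
    · exact Or.inl (H251.Der.row_u42 tab hK hF)
    · exact Or.inl (H251.Der.row_u43 tab hK hF)
    · exact Or.inl (H251.Der.row_u52 tab hK hF)
    · exact Or.inl (H251.Der.row_u62 tab hK hF)
  · exact Or.inl (H219.RowPsu.row_psu tab hK hF hn h)

theorem good_psp4 (tab : OrderTable.{0}) (hK : Kn) (h4 : 4 ≤ Fintype.card F) : Good (PSp 2 F) := by
  by_cases h : Fintype.card F = 4
  · exact Or.inl (H547.Der.Four.row_s44 tab hK F h)
  · exact Or.inl (H896.Der4.row_psp4 (by omega))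

theorem good_psp (tab : OrderTable.{0}) (hK : Kn) (m : ℕ) (hm : 3 ≤ m) : Good (PSp m F) := by
  by_cases h : m = 3 ∧ Fintype.card F = 2
  · obtain ⟨rfl, hF⟩ := h
    exact Or.inl (H547.Der.Six.row_s62 tab hK F hF)
  · exact Or.inl (H388.Der.row_psp_of tab hK hm h)

theorem good_oodd (tab : OrderTable.{0}) (hK : Kn) (m : ℕ) (hm : 3 ≤ m) (ho : Odd (Fintype.card F)) :
    Good (POmega F (quadFormOdd m F)) := Or.inl (H265.Der.row_oodd tab hK hm ho)

theorem good_oplus (tab : OrderTable.{0}) (hK : Kn) (m : ℕ) (hm : 4 ≤ m) : Good (POmega F (quadFormPlus m F)) := by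
  by_cases h : m = 4 ∧ Fintype.card F = 2
  · obtain ⟨rfl, hF⟩ := h
    exact Or.inl (H547.Der.Eight.row_o8p2 tab hK F hF)
  · exact Or.inl (H964.Opm.row_oplus tab hK hm h)

theorem good_ominus (tab : OrderTable.{0}) (hK : Kn) (m : ℕ) (a b : F) (hm : 4 ≤ m)
    (hab : ∀ z₁ z₂ : F, z₁ ^ 2 + a * z₁ * z₂ + b * z₂ ^ 2 = 0 → z₁ = 0 ∧ z₂ = 0) :
    Good (POmega F (quadFormMinus (m - 1) F a b)) := Or.inl (H964.Opm.row_ominus tab hK hm hab)

end Cfsg.Agent.H439.Der.GoodAll
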