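import Cfsg.Agent.H439.Der.Final
import Cfsg.Agent.H123.Der.ThreeRows
import Cfsg.Agent.H51.Der.Spor
import Cfsg.Agent.H348.Der.Rows
import Cfsg.Agent.H870.Der.CoOne
import Cfsg.Agent.H870.Der.CoTwoRow
import Cfsg.Agent.H870.Der.CoThree
import Cfsg.Agent.H870.Der.FiTwoE
import Cfsg.Agent.H870.Der.FiTwoThree
import Cfsg.Agent.H870.Der.FiTF
import Cfsg.Agent.H966.Der.McL
import Cfsg.Agent.H966.Der.HS
import Cfsg.Agent.H966.Der.Suz
import Cfsg.Agent.H966.Der.HN
import Cfsg.Agent.H183.Der.RowLy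
import Cfsg.Agent.H183.Der.RowTh
import Cfsg.Agent.H183.Der.RowB
import Cfsg.Agent.H183.Der.RowM

/-!
# S3500: the rows of the sporadic groups
-/

set_option autoImplicit false

namespace Cfsg.Agent.H439.Der.GoodAll

open Cfsg Cfsg.Agent.OrdDiv Cfsg.Agent.H257.El

theorem good_spor (tab : OrderTable.{0}) (hk : Known.{0}) (T : Type) [Group T] [Finite T] (h : IsSporadicGroup T) :
    Good T := by
  refine Or.inl ?_
  rcases h with h | h | h | h | h | h | h | h | h | h | h | h | h | h | h | h | h | h | h | h | h | h | h | h | h | h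
  · exact (H123.Der.rowS_m11 h).row
  · exact (H123.Der.rowS_m12 h).row
  · exact (H123.Der.rowS_m22 h).row
  · exact (H123.Der.rowS_m23 h).row
  · exact (H123.Der.rowS_m24 h).row
  · exact (H123.Der.rowS_j1 h).row
  · exact (H51.Der.rowS_j2 h).row
  · exact (H348.Der.rowS_j3 h).row
  · exact (H348.Der.rowS_j4 h).row
  · exact H870.Der.CoOne.row_co1 tab hk h
  · exact H870.Der.CoTwo.row_co2 tab hk h
  · exact H870.Der.CoThree.row_co3 tab hk h
  · exact H966.Der.McL.row_of tab hk h
  · exact H966.Der.HS.row_of tab hk h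
  · exact H966.Der.Suz.row_of tab hk h
  · exact (H348.Der.rowS_he h).row
  · exact (H348.Der.rowS_ru h).row
  · exact (H348.Der.rowS_on h).row
  · exact H183.Der.row_ly_of tab hk h
  · exact (H870.Der.FiTwo.rowS_fi22 tab hk h).row
  · exact (H870.Der.FiTT.rowS_fi23 tab hk h).row
  · exact (H870.Der.FiTF.rowS_fi24p tab hk h).row
  · exact H966.Der.HN.row_of tab hk h
  · exact H183.Der.row_th_of tab hk h
  · exact H183.Der.row_b_of tab hk h
  · exact H183.Der.row_m_of tab hk h

end Cfsg.Agent.H439.Der.GoodAll
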