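import Cfsg.Agent.H439.Der.Final
import Cfsg.Agent.H439.Der.GoodCl
import Cfsg.Agent.H439.Der.GoodEx
import Cfsg.Agent.H439.Der.GoodSp
import Cfsg.Agent.OrdDiv.Table
import Cfsg.Agent.S0000

/-!
# S3500: every non-abelian finite simple group is `Good`
-/

set_option autoImplicit false

namespace Cfsg.Agent.H439.Der.GoodAll

open Cfsg Cfsg.Agent.OrdDiv

theorem known : Kn := fun _ _ _ _ => S0000.result

theorem good (T : Type) [Group T] [Finite T] [IsSimpleGroup T] (hna : ¬ IsMulCommutative T) : Good T :=
  Asm.all_of (fun T _ => Good T) (fun T _ => Good T) (fun _ _ _ _ e h => h.congr e) (fun _ _ _ _ e h => h.congr e)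
    good_alt (fun F _ _ => good_psl2 F) (fun F _ _ => good_psl F table known) (fun F _ _ => good_psu3 F)
    (fun F _ _ => good_psu F table known) (fun F _ _ => good_psp4 F table known) (fun F _ _ => good_psp F table known)
    (fun F _ _ => good_oodd F table known) (fun F _ _ => good_oplus F table known)
    (fun F _ _ => good_ominus F table known) (good_exc table known) (good_spor table known) T hna S0000.result

end Cfsg.Agent.H439.Der.GoodAll
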