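import Cfsg.Agent.H439.Der.Three

/-!
# Three classes of derangements (S3502): the reduction
-/

set_option autoImplicit false

namespace Cfsg.Agent.H439.Der

open Subgroup MulAction Cfsg.Agent.H938.Sax

/-- three pairwise non-conjugate elements with `P` -/
theorem three_le {G : Type*} [Group G] [Finite G] {P : G → Prop} {x y z : G} (hx : P x) (hy : P y) (hz : P z)
    (hxy : ∀ g : G, g * x * g⁻¹ ≠ y) (hxz : ∀ g : G, g * x * g⁻¹ ≠ z) (hyz : ∀ g : G, g * y * g⁻¹ ≠ z) :
    3 ≤ Nat.card {c : ConjClasses G // ∃ g : G, ConjClasses.mk g = c ∧ P g} := by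
  classical
  let f : Fin 3 → {c : ConjClasses G // ∃ g : G, ConjClasses.mk g = c ∧ P g} :=
    ![⟨ConjClasses.mk x, x, rfl, hx⟩, ⟨ConjClasses.mk y, y, rfl, hy⟩, ⟨ConjClasses.mk z, z, rfl, hz⟩]
  have key : ∀ u v : G, (∀ g : G, g * u * g⁻¹ ≠ v) → ConjClasses.mk u ≠ ConjClasses.mk v := by
    intro u v h h1
    rw [ConjClasses.mk_eq_mk_iff_isConj, isConj_iff] at h1
    obtain ⟨c, hc⟩ := h1
    exact h c hc
  have hf : Function.Injective f := by
    intro i j hij
    have h1 := congrArg Subtype.val hij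
    fin_cases i <;> fin_cases j <;> first | rfl | skip
    · exact absurd h1 (key _ _ hxy)
    · exact absurd h1 (key _ _ hxz)
    · exact absurd h1.symm (key _ _ hxy)
    · exact absurd h1 (key _ _ hyz)
    · exact absurd h1.symm (key _ _ hxz)
    · exact absurd h1.symm (key _ _ hyz)
  have := Nat.card_le_card_of_injective f hf
  simpa using this

theorem two_le {G : Type*} [Group G] [Finite G] {P : G → Prop} {x y : G} (hx : P x) (hy : P y) 
    (hxy : ∀ g : G, g * x * g⁻¹ ≠ y) :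
    2 ≤ Nat.card {c : ConjClasses G // ∃ g : G, ConjClasses.mk g = c ∧ P g} := by
  classical
  let f : Fin 2 → {c : ConjClasses G // ∃ g : G, ConjClasses.mk g = c ∧ P g} :=
    ![⟨ConjClasses.mk x, x, rfl, hx⟩, ⟨ConjClasses.mk y, y, rfl, hy⟩]
  have key : ∀ u v : G, (∀ g : G, g * u * g⁻¹ ≠ v) → ConjClasses.mk u ≠ ConjClasses.mk v := by
    intro u v h h1
    rw [ConjClasses.mk_eq_mk_iff_isConj, isConj_iff] at h1
    obtain ⟨c, hc⟩ := h1
    exact h c hc
  have hf : Function.Injective f := by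
    intro i j hij
    have h1 := congrArg Subtype.val hij
    fin_cases i <;> fin_cases j <;> first | rfl | skip
    · exact absurd h1 (key _ _ hxy)
    · exact absurd h1.symm (key _ _ hxy)
  have := Nat.card_le_card_of_injective f hf
  simpa using this

section

variable {G : Type*} [Group G] [Finite G] {Ω : Type*} [Finite Ω] [MulAction G Ω] {T : Subgroup G}

/-- the situation of S3502 -/
structure Sit3 (G : Type*) [Group G] (Ω : Type*) [MulAction G Ω] (T : Subgroup G) : Prop where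
  normal : T.Normal
  simple : IsSimpleGroup T
  nab : ¬ IsMulCommutative T
  cent : Subgroup.centralizer (T : Set G) = ⊥
  faith : FaithfulSMul G Ω
  trans : IsPretransitive G Ω
  two : 2 ≤ Nat.card Ω
  imp : ∀ a : Ω, ¬ IsCoatom (stabilizer G a)

namespace Sit3

variable (h : Sit3 G Ω T)

include h

/-- elements of `T` without automorphic images in `T ∩ H` are derangements -/
theorem der_of_aut {a : Ω} {x : T} (hx : ∀ φ : T ≃* T, φ x ∉ stabT T a) (b : Ω) : (x : G) • b ≠ b := by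
  intro hb
  have hT := h.normal
  have htr := h.trans
  obtain ⟨g, rfl⟩ := MulAction.exists_smul_eq G a b
  apply hx (MulAut.conjNormal g⁻¹)
  rw [mem_stabT, MulAut.conjNormal_apply, mul_smul, mul_smul, inv_inv, hb, inv_smul_smul]

theorem ne_of_aut {x y : T} (hxy : ∀ φ : T ≃* T, φ x ≠ y) (g : G) : g * (x : G) * g⁻¹ ≠ y := by
  intro hg
  have hT := h.normal
  apply hxy (MulAut.conjNormal g)
  apply Subtype.ext
  rw [MulAut.conjNormal_apply, hg]

theorem ne_of_not_mem {x : T} {z : G} (hz : z ∉ T) (g : G) : g * (x : G) * g⁻¹ ≠ z := fun hg =>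
  hz (hg ▸ h.normal.conj_mem x x.2 g)

theorem stabT_ne_top (a : Ω) : stabT T a ≠ ⊤ := by
  intro h1
  have hT := h.normal
  have hs := h.simple
  have htr := h.trans
  have h2 : T ≤ stabilizer G a := by rwa [subgroupOf_eq_top] at h1
  have h3 : T = ⊥ := by
    rw [eq_bot_iff]
    intro t ht
    rw [mem_bot]
    have := h.faith
    apply FaithfulSMul.eq_of_smul_eq_smul (α := Ω)
    intro b
    obtain ⟨g, rfl⟩ := MulAction.exists_smul_eq G a b
    have h4 : g⁻¹ * t * g ∈ T := by simpa using hT.conj_mem t ht g⁻¹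
    have h5 : (g⁻¹ * t * g) • a = a := h2 h4
    rw [mul_smul, mul_smul, inv_smul_eq_iff] at h5
    rw [one_smul, h5]
  rw [h3] at hs
  exact not_subsingleton (⊥ : Subgroup G) inferInstance

omit h in
/-- Jordan -/
theorem exists_not_conj {K : Subgroup G} (hK : K ≠ ⊤) : ∃ z : G, ∀ g : G, g * z * g⁻¹ ∉ K := by
  obtain ⟨z, hz⟩ := Cfsg.Agent.H395.Jordan.exists_derangement (G := G) (X := G ⧸ K) inferInstance (by
    have h1 : K.index ≠ 0 := Subgroup.index_ne_zero_of_finite
    have h2 : K.index ≠ 1 := fun h3 => hK (Subgroup.index_eq_one.1 h3)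
    have h3 : Nat.card (G ⧸ K) = K.index := rfl
    omega)
  refine ⟨z, fun g hg => hz ((g⁻¹ : G) : G ⧸ K) ?_⟩
  rw [MulAction.Quotient.smul_mk, smul_eq_mul, eq_comm, QuotientGroup.eq, inv_inv, ← mul_assoc]
  exact hg

/-- `T` intransitive -/
theorem case_int {a : Ω} (hK : T ⊔ stabilizer G a ≠ ⊤)
    (hr : (∀ M : Subgroup T, IsCoatom M → Two T M) ∨ (Cos T ∧ ∀ M : Subgroup T, IsCoatom M → Miss T M)) :
    3 ≤ Nat.card {c : ConjClasses G // ∃ g : G, ConjClasses.mk g = c ∧ ∀ ω : Ω, g • ω ≠ ω} := by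
  have hT := h.normal
  have hs := h.simple
  have htr := h.trans
  obtain ⟨z, hz⟩ := exists_not_conj hK
  have hzT : z ∉ T := fun h1 => hz 1 (by simpa using (mem_sup_left h1 : z ∈ T ⊔ stabilizer G a))
  have hder : ∀ z : G, (∀ g : G, g * z * g⁻¹ ∉ T ⊔ stabilizer G a) → ∀ b : Ω, z • b ≠ b := by
    intro z hz b hb
    obtain ⟨g, rfl⟩ := MulAction.exists_smul_eq G a b
    apply hz g⁻¹
    apply mem_sup_right
    rw [mem_stabilizer_iff, mul_smul, mul_smul, inv_inv, hb, inv_smul_smul]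
  rcases eq_top_or_exists_le_coatom (stabT T a) with h1 | ⟨M, hM, h1⟩
  · exact absurd h1 (h.stabT_ne_top a)
  rcases hr with hr | ⟨hr, hm⟩
  · obtain ⟨x, y, hx, hy, hxy⟩ := (hr M hM).mono h1
    exact three_le (x := (x : G)) (y := (y : G)) (z := z) (h.der_of_aut hx) (h.der_of_aut hy) (hder z hz)
      (h.ne_of_aut hxy) (h.ne_of_not_mem hzT) (h.ne_of_not_mem hzT)
  · obtain ⟨x, hx⟩ := (hm M hM).mono h1
    -- the coset of `z`
    have hinj : Function.Injective (MulAut.conjNormal : G →* MulAut T) := by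
      rw [injective_iff_map_eq_one]
      intro g hg
      have h1 : g ∈ centralizer (T : Set G) := by
        rw [Subgroup.mem_centralizer_iff]
        intro x hx
        have h2 : (MulAut.conjNormal g : MulAut T) ⟨x, hx⟩ = ⟨x, hx⟩ := by rw [hg]; rfl
        have h3 : g * x * g⁻¹ = x := by
          have := congrArg Subtype.val h2
          rwa [MulAut.conjNormal_apply] at this
        exact (mul_inv_eq_iff_eq_mul.1 h3).symm
      rwa [h.cent, Subgroup.mem_bot] at h1
    have hconj : ∀ t : T, (MulAut.conjNormal (t : G) : MulAut T) = MulAut.conj t := by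
      intro t
      ext s
      simp
    obtain ⟨t, ht⟩ := hr (MulAut.conjNormal z) (fun t h2 => hzT (by
      rw [← hconj] at h2
      rw [hinj h2]
      exact t.2))
    rw [← hconj, ← map_mul, orderOf_injective _ hinj, orderOf_injective _ hinj] at ht
    have htz : ∀ g : G, g * ((t : G) * z) * g⁻¹ ∉ T ⊔ stabilizer G a := by
      intro g hg
      apply hz g
      have h2 : g * z * g⁻¹ = (g * t * g⁻¹)⁻¹ * (g * (t * z) * g⁻¹) := by group
      rw [h2]
      exact mul_mem (inv_mem (mem_sup_left (hT.conj_mem t t.2 g))) hg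
    have htzT : (t : G) * z ∉ T := fun h2 => hzT (by simpa using T.mul_mem (T.inv_mem t.2) h2)
    refine three_le (x := (x : G)) (y := z) (z := (t : G) * z) (h.der_of_aut hx) (hder z hz) (hder _ htz)
      (h.ne_of_not_mem hzT) (h.ne_of_not_mem htzT) fun g hg => ht ?_
    rw [← hg]
    exact (MulAut.conj g).orderOf_eq z

theorem der_of (htr : ∀ a b : Ω, ∃ t ∈ T, t • a = b) {a : Ω} {x : T} (hx : ∀ g : T, g * x * g⁻¹ ∉ stabT T a) (b : Ω) :
    (x : G) • b ≠ b := by
  intro hb
  obtain ⟨t, ht, rfl⟩ := htr a b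
  apply hx ⟨t, ht⟩⁻¹
  rw [mem_stabT]
  show (t⁻¹ * (x : G) * t⁻¹⁻¹) • a = a
  rw [inv_inv, mul_smul, mul_smul, hb, inv_smul_smul]

omit h in
theorem trans_T {a : Ω} (htr : IsPretransitive G Ω) (hT : T.Normal) (hK : T ⊔ stabilizer G a = ⊤) :
    ∀ b c : Ω, ∃ t ∈ T, t • b = c := by
  have h1 : ∀ b : Ω, ∃ t ∈ T, t • a = b := by
    intro b
    obtain ⟨g, rfl⟩ := MulAction.exists_smul_eq G a b
    have hg : g ∈ T ⊔ stabilizer G a := by rw [hK]; trivial
    rw [Subgroup.mem_sup_of_normal_left] at hg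
    obtain ⟨t, ht, k, hk, rfl⟩ := hg
    refine ⟨t, ht, ?_⟩
    rw [mul_smul, mem_stabilizer_iff.1 hk]
  intro b c
  obtain ⟨t, ht, rfl⟩ := h1 b
  obtain ⟨u, hu, rfl⟩ := h1 c
  exact ⟨u * t⁻¹, mul_mem hu (inv_mem ht), by rw [mul_smul, inv_smul_smul]⟩

/-- `T = G` -/
theorem case_top {a : Ω} (hG : T = ⊤) (h3 : ThreeT T (stabT T a)) :
    3 ≤ Nat.card {c : ConjClasses G // ∃ g : G, ConjClasses.mk g = c ∧ ∀ ω : Ω, g • ω ≠ ω} := by
  have htr := h.trans
  have h1 : ∀ b c : Ω, ∃ t ∈ T, t • b = c := by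
    intro b c
    obtain ⟨g, hg⟩ := MulAction.exists_smul_eq G b c
    exact ⟨g, by rw [hG]; exact mem_top g, hg⟩
  obtain ⟨x, y, z, hx, hy, hz, hxy, hxz, hyz⟩ := h3
  have key : ∀ u v : T, (∀ g : T, g * u * g⁻¹ ≠ v) → ∀ g : G, g * (u : G) * g⁻¹ ≠ v := fun u v huv g hg =>
    huv ⟨g, by rw [hG]; exact mem_top g⟩ (Subtype.ext hg)
  exact three_le (h.der_of h1 hx) (h.der_of h1 hy) (h.der_of h1 hz) (key _ _ hxy) (key _ _ hxz) (key _ _ hyz)

theorem not_isCoatom_stabT {a : Ω} (hG : T = ⊤) : ¬ IsCoatom (stabT T a) := by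
  subst hG
  intro h1
  apply h.imp a
  have h2 := Cfsg.Agent.H278.El.isCoatom_comap (Subgroup.topEquiv (G := G)).symm h1
  have h3 : (stabT (⊤ : Subgroup G) a).comap (Subgroup.topEquiv (G := G)).symm.toMonoidHom = stabilizer G a := by
    ext x
    rfl
  rwa [h3] at h2

/-- the group `N` between the stabiliser and `T` -/
theorem exists_N {a : Ω} (hK : T ⊔ stabilizer G a = ⊤) : ∃ M : Subgroup G, stabilizer G a < M ∧
    stabT T a < M.subgroupOf T ∧ M.subgroupOf T < ⊤ := by
  have hT := h.normal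
  have hne : stabilizer G a ≠ ⊤ := by
    intro h1
    apply h.stabT_ne_top a
    rw [stabT, h1, top_subgroupOf]
  obtain ⟨M, hM1, hM2⟩ : ∃ M : Subgroup G, stabilizer G a < M ∧ M ≠ ⊤ := by
    by_contra hcon
    push Not at hcon
    exact h.imp a ⟨hne, fun M hM => hcon M hM⟩
  refine ⟨M, hM1, ?_, ?_⟩
  · refine lt_of_le_of_ne (fun x hx => hM1.le hx) fun h1 => hM1.not_ge fun m hm => ?_
    have hm' : m ∈ T ⊔ stabilizer G a := by rw [hK]; trivial
    rw [Subgroup.mem_sup_of_normal_left] at hm'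
    obtain ⟨t, ht, k, hk, rfl⟩ := hm'
    have h2 : t ∈ M := by simpa using mul_mem hm (inv_mem (hM1.le hk))
    have h3 : (⟨t, ht⟩ : T) ∈ stabT T a := by
      rw [h1]
      exact h2
    exact mul_mem h3 hk
  · rw [lt_top_iff_ne_top]
    intro h1
    rw [subgroupOf_eq_top] at h1
    apply hM2
    rw [eq_top_iff, ← hK]
    exact sup_le h1 hM1.le

theorem index_stabT (htr' : ∀ a b : Ω, ∃ t ∈ T, t • a = b) (a : Ω) : (stabT T a).index = Nat.card Ω := by
  have htr'' : IsPretransitive T Ω := ⟨fun a b => by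
    obtain ⟨n, hn, h1⟩ := htr' a b
    exact ⟨⟨n, hn⟩, h1⟩⟩
  rw [← MulAction.index_stabilizer_of_transitive T a]
  rfl

/-- `|Ω| ≡ 1 (mod s)` for all primes `s ∣ |G : T|` -/
theorem mod (hout : ∀ g : G, g ∉ T → ∃! a : Ω, g • a = a) (s : ℕ) (hs : s.Prime) (hd : s ∣ T.index) :
    Nat.card Ω ≡ 1 [MOD s] := by
  have hT := h.normal
  have := Fact.mk hs
  -- an element of `s`-power order outside `T`
  have h1 : s ∣ Nat.card (G ⧸ T) := hd
  obtain ⟨q, hq⟩ := exists_prime_orderOf_dvd_card' s h1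
  obtain ⟨g, rfl⟩ := QuotientGroup.mk_surjective q
  obtain ⟨k, m, hm, hkm⟩ := Nat.exists_eq_pow_mul_and_not_dvd (orderOf_pos g).ne' s hs.ne_one
  have h2 : g ^ m ∉ T := by
    intro h3
    rw [← QuotientGroup.eq_one_iff, QuotientGroup.mk_pow] at h3
    have h4 := orderOf_dvd_of_pow_eq_one h3
    rw [hq] at h4
    exact hm h4
  obtain ⟨a, ha, ha'⟩ := hout _ h2
  have hp : IsPGroup s (zpowers (g ^ m)) := by
    rintro ⟨x, j, rfl⟩
    refine ⟨k, Subtype.ext ?_⟩
    show ((g ^ m) ^ j) ^ s ^ k = 1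
    rw [← zpow_natCast, ← zpow_mul, mul_comm, zpow_mul, zpow_natCast, ← pow_mul, mul_comm m, ← hkm, pow_orderOf_eq_one,
      one_zpow]
  have h3 := hp.card_modEq_card_fixedPoints Ω
  have h4 : Nat.card (fixedPoints (zpowers (g ^ m)) Ω) = 1 := by
    rw [Nat.card_eq_one_iff_unique]
    have h5 : ∀ b : Ω, b ∈ fixedPoints (zpowers (g ^ m)) Ω → b = a := fun b hb =>
      ha' b (hb ⟨g ^ m, mem_zpowers _⟩)
    refine ⟨⟨fun b c => Subtype.ext ((h5 _ b.2).trans (h5 _ c.2).symm)⟩, ⟨⟨a, ?_⟩⟩⟩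
    rintro ⟨x, j, rfl⟩
    exact zpow_mem (K := stabilizer G a) (show g ^ m ∈ stabilizer G a from ha) j
  rwa [h4] at h3

theorem index_dvd_out : T.index ∣ Nat.card (Cfsg.Out T) := by
  have hT := h.normal
  have hS := h.simple
  have hinj : Function.Injective (MulAut.conjNormal : G →* MulAut T) := by
    rw [injective_iff_map_eq_one]
    intro g hg
    have h1 : g ∈ centralizer (T : Set G) := by
      rw [Subgroup.mem_centralizer_iff]
      intro x hx
      have h2 : (MulAut.conjNormal g : MulAut T) ⟨x, hx⟩ = ⟨x, hx⟩ := by rw [hg]; rfl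
      have h3 : g * x * g⁻¹ = x := by
        have := congrArg Subtype.val h2
        rwa [MulAut.conjNormal_apply] at this
      exact (mul_inv_eq_iff_eq_mul.1 h3).symm
    rwa [h.cent, Subgroup.mem_bot] at h1
  have h1 := Cfsg.Agent.H934.OutB.card_out_mul T h.nab
  have : Finite (MulAut T) := Finite.of_injective (fun f : MulAut T => (f : T → T)) DFunLike.coe_injective
  have h2 : Nat.card G ∣ Nat.card (MulAut T) := by
    rw [Nat.card_congr (MonoidHom.ofInjective hinj).toEquiv]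
    exact Subgroup.card_subgroup_dvd_card _
  rw [← h1, ← Subgroup.card_mul_index T, mul_comm] at h2
  exact Nat.dvd_of_mul_dvd_mul_right Nat.card_pos h2

omit h in
theorem map_conj_eq [T.Normal] {K : Subgroup G} {g : G} (hg : g ∈ K) :
    (K.subgroupOf T).map (MulAut.conjNormal (H := T) g).toMonoidHom = K.subgroupOf T := by
  have h3 : ∀ k : G, k ∈ K → (K.subgroupOf T).map (MulAut.conjNormal (H := T) k).toMonoidHom ≤ K.subgroupOf T := by
    rintro k hk _ ⟨x, hx, rfl⟩
    have hx' : (x : G) ∈ K := hx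
    rw [mem_subgroupOf]
    show ((MulAut.conjNormal k x : T) : G) ∈ K
    rw [MulAut.conjNormal_apply]
    exact mul_mem (mul_mem hk hx') (inv_mem hk)
  refine le_antisymm (h3 _ hg) fun x hx => ?_
  refine ⟨MulAut.conjNormal (H := T) g⁻¹ x, h3 g⁻¹ (inv_mem hg) ⟨x, hx, rfl⟩, ?_⟩
  show MulAut.conjNormal (H := T) g (MulAut.conjNormal (H := T) g⁻¹ x) = x
  rw [← MulAut.mul_apply, ← map_mul, mul_inv_cancel, map_one]
  rfl

theorem not_inner {g : G} (hg : g ∉ T) (t : T) : (haveI := h.normal; MulAut.conjNormal (H := T) g) ≠ MulAut.conj t := by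
  intro h5
  have hT := h.normal
  apply hg
  have h6 : (t : G)⁻¹ * g ∈ centralizer (T : Set G) := by
    rw [mem_centralizer_iff]
    intro m hm
    have h7 := congrArg (fun f : MulAut T => ((f ⟨m, hm⟩ : T) : G)) h5
    simp only [MulAut.conj_apply, MulAut.conjNormal_apply, coe_mul, coe_inv] at h7
    rw [mul_inv_eq_iff_eq_mul] at h7
    calc m * ((t : G)⁻¹ * g) = (t : G)⁻¹ * ((t : G) * m * (t : G)⁻¹ * g) := by group
      _ = (t : G)⁻¹ * g * m := by rw [← h7]; group
  rw [h.cent, mem_bot, inv_mul_eq_one] at h6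
  rw [← h6]
  exact t.2

/-- `T` transitive, `T ≠ G` -/
theorem case_trans {a : Ω} (hK : T ⊔ stabilizer G a = ⊤) (hG : T ≠ ⊤)
    (hr : Three T (stabT T a) ∨ (Two T (stabT T a) ∧ (NoOne T (stabT T a) ∨ OutBadN T (stabT T a)))) :
    3 ≤ Nat.card {c : ConjClasses G // ∃ g : G, ConjClasses.mk g = c ∧ ∀ ω : Ω, g • ω ≠ ω} := by
  have hT := h.normal
  have htr' := trans_T h.trans hT hK
  rcases hr with hr | ⟨h2, hr⟩
  · obtain ⟨x, y, z, hx, hy, hz, hxy, hxz, hyz⟩ := hr
    exact three_le (h.der_of_aut hx) (h.der_of_aut hy) (h.der_of_aut hz) (h.ne_of_aut hxy) (h.ne_of_aut hxz)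
      (h.ne_of_aut hyz)
  · -- an outer derangement
    by_cases hout : ∀ g : G, g ∉ T → ∃ b : Ω, g • b = b
    · exfalso
      have h1 := out_one T htr' hout
      rcases hr with hr | hr
      · have h4 : T.index ≠ 1 := fun h5 => hG (Subgroup.index_eq_one.1 h5)
        have h5 := Nat.minFac_prime h4
        exact hr _ h5 ((Nat.minFac_dvd _).trans h.index_dvd_out) (by
          rw [h.index_stabT htr' a]
          exact h.mod h1 _ h5 (Nat.minFac_dvd _))
      · -- an element of the stabiliser outside `T`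
        obtain ⟨g, hg, hga⟩ : ∃ g : G, g ∉ T ∧ g • a = a := by
          obtain ⟨g, hg⟩ : ∃ g : G, g ∉ T := by
            by_contra hcon
            push Not at hcon
            exact hG (eq_top_iff.2 fun g _ => hcon g)
          obtain ⟨t, ht, h1⟩ := htr' (g • a) a
          exact ⟨t * g, fun h2 => hg (by simpa using T.mul_mem (T.inv_mem ht) h2), by rw [mul_smul, h1]⟩
        obtain ⟨M, hM1, hM2, hM3⟩ := h.exists_N hK
        obtain ⟨r, hr', t, ht, h4⟩ := hr (MulAut.conjNormal (H := T) g) (h.not_inner hg)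
          (map_conj_eq (K := stabilizer G a) (mem_stabilizer_iff.2 hga))
          ⟨M.subgroupOf T, hM2, hM3, map_conj_eq (hM1.le (mem_stabilizer_iff.2 hga))⟩
        have hra : (r : G) • a = a := mem_stabT.1 hr'
        obtain ⟨b, hb, hb'⟩ := h1 ((r : G) * g) fun h5 => hg (by simpa using T.mul_mem (T.inv_mem r.2) h5)
        have h5 : a = b := hb' a (show ((r : G) * g) • a = a by rw [mul_smul, hga, hra])
        have h6 : (t : G) • a = b := by
          apply hb'
          show ((r : G) * g) • (t : G) • a = (t : G) • a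
          have h7 := mem_stabT.1 h4
          have h8 : (((t⁻¹ * (r * (MulAut.conjNormal (H := T) g) t * r⁻¹) : T)) : G) =
              (t : G)⁻¹ * ((r : G) * g * (t : G)) * ((r : G) * g)⁻¹ := by
            simp only [coe_mul, coe_inv, MulAut.conjNormal_apply]
            group
          rw [h8, mul_smul, mul_smul, inv_smul_eq_iff, inv_smul_eq_iff.2 (show a = ((r : G) * g) • a by
            rw [mul_smul, hga, hra])] at h7
          rw [← mul_smul]
          exact h7
        exact ht (mem_stabT.2 (h6.trans h5.symm))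
    · push Not at hout
      obtain ⟨z, hzT, hz⟩ := hout
      obtain ⟨x, y, hx, hy, hxy⟩ := h2
      exact three_le (x := (x : G)) (y := (y : G)) (z := z) (h.der_of_aut hx) (h.der_of_aut hy) hz
        (h.ne_of_aut hxy) (h.ne_of_not_mem hzT) (h.ne_of_not_mem hzT)

/-- **Reduction.** -/
theorem final (hr : RowW T ∨ RowA T) :
    3 ≤ Nat.card {c : ConjClasses G // ∃ g : G, ConjClasses.mk g = c ∧ ∀ ω : Ω, g • ω ≠ ω} ∨
      (Nat.card {c : ConjClasses G // ∃ g : G, ConjClasses.mk g = c ∧ ∀ ω : Ω, g • ω ≠ ω} = 2 ∧ Nat.card G = 60 ∧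
        Nat.card Ω = 12) := by
  have hT := h.normal
  have hne : Nonempty Ω := by
    by_contra hn
    rw [not_nonempty_iff] at hn
    have := h.two
    rw [Nat.card_of_isEmpty] at this
    omega
  obtain ⟨a⟩ := hne
  by_cases hK : T ⊔ stabilizer G a = ⊤
  · by_cases hG : T = ⊤
    · have hc := h.not_isCoatom_stabT (a := a) hG
      rcases hr with hr | hr
      · rcases hr.2 _ (h.stabT_ne_top a) hc with h1 | ⟨h1, -, -⟩
        · exact Or.inl (h.case_top hG h1.threeT)
        · exact Or.inl (h.case_top hG h1)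
      · rcases hr.2.2.2 _ (h.stabT_ne_top a) hc with (h1 | ⟨h1, -, -⟩) | ⟨h1, h2, -⟩
        · exact Or.inl (h.case_top hG h1.threeT)
        · exact Or.inl (h.case_top hG h1)
        · rw [h.index_stabT (trans_T h.trans hT hK) a] at h1
          obtain ⟨x, y, hx, hy, hxy⟩ := h2
          have h3 := two_le (P := fun g : G => ∀ ω : Ω, g • ω ≠ ω) (x := (x : G)) (y := (y : G))
            (h.der_of_aut hx) (h.der_of_aut hy) (h.ne_of_aut hxy)
          have h4 : Nat.card G = 60 := by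
            rw [← hr.1, hG]
            exact (Nat.card_congr (Subgroup.topEquiv (G := G)).toEquiv).symm
          rcases Nat.lt_or_ge 2 (Nat.card {c : ConjClasses G // ∃ g : G, ConjClasses.mk g = c ∧ ∀ ω : Ω, g • ω ≠ ω}) with h5 | h5
          · exact Or.inl h5
          · exact Or.inr ⟨le_antisymm h5 h3, h4, h1⟩
    · left
      obtain ⟨M, hM1, hM2, hM3⟩ := h.exists_N hK
      have hc : ¬ IsCoatom (stabT T a) := fun hc => hM3.ne (hc.2 _ hM2)
      apply h.case_trans hK hG
      rcases hr with hr | hr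
      · rcases hr.2 _ (h.stabT_ne_top a) hc with h1 | ⟨-, h1⟩
        · exact Or.inl h1
        · exact Or.inr h1
      · rcases hr.2.2.2 _ (h.stabT_ne_top a) hc with (h1 | ⟨-, h1⟩) | ⟨-, h1, h2⟩
        · exact Or.inl h1
        · exact Or.inr h1
        · exact Or.inr ⟨h1, Or.inl h2⟩
  · left
    apply h.case_int hK
    rcases hr with hr | hr
    · exact hr.1
    · exact Or.inr ⟨hr.2.1, hr.2.2.1⟩

end Sit3

end

end Cfsg.Agent.H439.Der
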